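import Cfsg.Prelude.Def_Local
import Cfsg.Prelude.Def_Solvable
import Cfsg.Prelude.Def_Transfer
import Cfsg.Prelude.Def_Involutions
import Mathlib.GroupTheory.Sylow
import Mathlib.GroupTheory.SpecificGroups.KleinFour
import Mathlib.GroupTheory.Subgroup.Centralizer
import Mathlib.GroupTheory.Index

/-!
# π-homogeneous groups with 2-closed π-subgroups: interfaces for S3258

`PLAN.md` in this folder has the proof; each file proves one of the `*Stmt` propositions.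
-/

set_option autoImplicit false

namespace Cfsg.Agent.PiHom23

open Subgroup

universe u

variable {G : Type u} [Group G]

/-- A π-subgroup. -/
def PiSub (π : Set ℕ) (H : Subgroup G) : Prop :=
  ∀ p : ℕ, p.Prime → p ∣ Nat.card ↥H → p ∈ π

/-- Every π-subgroup has a normal Sylow 2-subgroup. -/
def PiTwoClosed (π : Set ℕ) (G : Type u) [Group G] : Prop :=
  ∀ H : Subgroup G, PiSub π H → ∀ P : Sylow 2 ↥H, (P : Subgroup ↥H).Normal

/-- `N(H)/C(H)` is a π-group for every nontrivial π-subgroup `H`. -/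
def Homog (π : Set ℕ) (G : Type u) [Group G] : Prop :=
  ∀ H : Subgroup G, H ≠ ⊥ → PiSub π H →
    ∀ p : ℕ, p.Prime →
      p ∣ (centralizer (H : Set G)).relIndex (normalizer (H : Set G)) → p ∈ π

/-- The π'-elements form a subgroup. -/
def PiPrimeClosed (π : Set ℕ) (G : Type u) [Group G] : Prop :=
  ∃ K : Subgroup G, ∀ x : G, x ∈ K ↔ ∀ p : ℕ, p.Prime → p ∣ orderOf x → p ∉ π

/-- A minimal counterexample. `proper` gives a normal π'-subgroup with π-quotient in each proper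
subgroup. -/
structure Ctx (π : Set ℕ) (G : Type u) [Group G] : Prop where
  two_mem : 2 ∈ π
  simple : IsSimpleGroup G
  noncomm : ¬ IsMulCommutative G
  twoClosed : PiTwoClosed π G
  homog : Homog π G
  proper : ∀ U : Subgroup G, U ≠ ⊤ → ∃ K : Subgroup G, K ≤ U ∧ U ≤ normalizer (K : Set G) ∧
    (∀ p : ℕ, p.Prime → p ∣ Nat.card ↥K → p ∉ π) ∧
    ∀ p : ℕ, p.Prime → p ∣ K.relIndex U → p ∈ π

/-- `T` is a Sylow `p`-subgroup of `U`. -/
def SylowIn (p : ℕ) (T U : Subgroup G) : Prop :=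
  T ≤ U ∧ IsPGroup p T ∧ ¬ p ∣ T.relIndex U

/-- Facts about a minimal counterexample, proved in `Local.lean`. -/
structure Local (π : Set ℕ) (G : Type u) [Group G] : Prop where
  even : 2 ∣ Nat.card G
  solv : ∀ U : Subgroup G, U ≠ ⊤ → Group.IsSolvable U
  centNe : ∀ x : G, x ≠ 1 → centralizer ({x} : Set G) ≠ ⊤
  normNe : ∀ H : Subgroup G, H ≠ ⊥ → H ≠ ⊤ → normalizer (H : Set G) ≠ ⊤
  inverted : ∀ t x : G, t * t = 1 → Odd (orderOf x) → t * x * t⁻¹ = x⁻¹ →
    ∀ p : ℕ, p.Prime → p ∣ orderOf x → p ∉ π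
  layer : ∀ U : Subgroup G, U ≠ ⊤ → ∀ T : Subgroup G, SylowIn 2 T U →
    ∃ K : Subgroup G, K ≤ U ∧ U ≤ normalizer (K : Set G) ∧ Odd (Nat.card ↥K) ∧
      ∀ u ∈ U, ∃ k ∈ K, ∃ n ∈ U, n ∈ normalizer (T : Set G) ∧ u = k * n
  fusion : ∀ (S : Sylow 2 G) (T : Subgroup G) (g : G), T ≤ (S : Subgroup G) →
    (∀ x ∈ T, g * x * g⁻¹ ∈ (S : Subgroup G)) →
    ∃ n ∈ normalizer ((S : Subgroup G) : Set G), ∀ x ∈ T, n * x * n⁻¹ = g * x * g⁻¹
  notFixed : ∀ (S : Sylow 2 G) (z : G), z ∈ (S : Subgroup G) → orderOf z = 2 →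
    (∀ n ∈ normalizer ((S : Subgroup G) : Set G), n * z * n⁻¹ = z) → False
  notNormal : ∀ S : Sylow 2 G, ¬ (S : Subgroup G).Normal
  centre : ∀ S : Sylow 2 G, ∃ a ∈ (S : Subgroup G), ∃ b ∈ (S : Subgroup G),
    orderOf a = 2 ∧ orderOf b = 2 ∧ a ≠ b ∧
      (∀ s ∈ (S : Subgroup G), a * s = s * a) ∧ ∀ s ∈ (S : Subgroup G), b * s = s * b

/-- `Ω₁(Z(S))`. -/
def omegaZ (S : Subgroup G) : Subgroup G where
  carrier := {x | x ∈ S ∧ x * x = 1 ∧ ∀ s ∈ S, x * s = s * x}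
  mul_mem' := by
    rintro a b ⟨ha, ha2, hac⟩ ⟨hb, hb2, hbc⟩
    refine ⟨mul_mem ha hb, ?_, fun s hs => ?_⟩
    · rw [mul_assoc, ← mul_assoc b a, hbc a ha, mul_assoc, hb2, mul_one, ha2]
    · rw [mul_assoc, hbc s hs, ← mul_assoc, hac s hs, mul_assoc]
  one_mem' := ⟨one_mem S, one_mul 1, fun s _ => by rw [one_mul, mul_one]⟩
  inv_mem' := by
    rintro a ⟨ha, ha2, hac⟩
    rw [Set.mem_ofPred_eq, inv_eq_of_mul_eq_one_right ha2]
    exact ⟨ha, ha2, hac⟩

/-- The subgroup generated by the `O(C(a))`, `a` in `Ω₁(Z(S))`. -/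
def coreW (S : Subgroup G) : Subgroup G :=
  ⨆ a : {a : G // a ∈ omegaZ S ∧ a ≠ 1}, Cfsg.centralizerPPrimeCore 2 (a : G)

/-- The involutions of the Sylow 2-subgroup `S` lie in the four-group `E`. -/
structure RankTwo (S : Sylow 2 G) (E : Subgroup G) : Prop where
  card_E : Nat.card ↥E = 4
  le : E ≤ (S : Subgroup G)
  mem_iff : ∀ x ∈ (S : Subgroup G), x * x = 1 ↔ x ∈ E
  central : ∀ e ∈ E, ∀ s ∈ (S : Subgroup G), e * s = s * e
  trans : ∀ a ∈ E, a ≠ 1 → ∀ b ∈ E, b ≠ 1 →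
    ∃ n ∈ normalizer ((S : Subgroup G) : Set G), n * a * n⁻¹ = b

/-- `S` has the structure of a Sylow 2-subgroup of `U₃(4)`. -/
structure U34Type (S : Sylow 2 G) (E : Subgroup G) : Prop extends RankTwo S E where
  card_S : Nat.card ↥(S : Subgroup G) = 64
  sq_mem : ∀ x ∈ (S : Subgroup G), x * x ∈ E
  comm_mem : ∀ x ∈ (S : Subgroup G), ∀ y ∈ (S : Subgroup G), x * y * x⁻¹ * y⁻¹ ∈ E
  nonab : ∃ x ∈ (S : Subgroup G), ∃ y ∈ (S : Subgroup G), x * y ≠ y * x

/-- A linear character of `N(E)` that is nontrivial on a 5-element. -/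
def FiveData (π : Set ℕ) (E : Subgroup G) : Prop :=
  5 ∈ π ∧ ∃ (A : Type u) (_ : CommGroup A) (χ : ↥(normalizer (E : Set G)) →* A)
    (x : ↥(normalizer (E : Set G))), (∃ k : ℕ, orderOf x = 5 ^ k) ∧ χ x ≠ 1

/-! ## Statements -/

/-- `Reduce.lean` -/
def ReduceStmt : Prop :=
  ∀ (π : Set ℕ), 2 ∈ π → (∀ (H : Type u) [Group H] [Finite H], Ctx π H → False) →
    ∀ (G : Type u) [Group G] [Finite G], PiTwoClosed π G → Homog π G → PiPrimeClosed π G

/-- `Reduce.lean`: the easy direction. -/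
def ConverseStmt : Prop :=
  ∀ (π : Set ℕ) (G : Type u) [Group G] [Finite G], PiPrimeClosed π G → Homog π G

/-- `Local.lean` -/
def LocalStmt : Prop :=
  ∀ (π : Set ℕ) (G : Type u) [Group G] [Finite G], Ctx π G → Local π G

/-- `Embedded.lean`: a proper `coreW` gives a strongly embedded subgroup, hence a contradiction. -/
def EmbeddedStmt : Prop :=
  ∀ (π : Set ℕ) (G : Type u) [Group G] [Finite G], Ctx π G → Local π G →
    ∀ S : Sylow 2 G, coreW (S : Subgroup G) ≠ ⊤ → False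

/-- `RankThree.lean`: the signalizer functor theorem. -/
def RankThreeStmt : Prop :=
  ∀ (π : Set ℕ) (G : Type u) [Group G] [Finite G], Ctx π G → Local π G →
    ∀ (S : Sylow 2 G) (A : Subgroup G), A ≤ (S : Subgroup G) →
      Cfsg.IsElementaryAbelian 2 A → 8 ≤ Nat.card ↥A → coreW (S : Subgroup G) ≠ ⊤

/-- `Klein.lean`: a four-group as Sylow 2-subgroup. -/
def KleinKillStmt : Prop :=
  ∀ (π : Set ℕ) (G : Type u) [Group G] [Finite G], Ctx π G → Local π G →
    ∀ S : Sylow 2 G, RankTwo S (S : Subgroup G) → False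

/-- `U34Split.lean` -/
def U34SplitStmt : Prop :=
  ∀ (π : Set ℕ) (G : Type u) [Group G] [Finite G], Ctx π G → Local π G →
    ∀ (S : Sylow 2 G) (E : Subgroup G), U34Type S E →
      (∀ n ∈ normalizer ((S : Subgroup G) : Set G), n ∈ centralizer (E : Set G) →
        Odd (orderOf n) → n ∈ centralizer ((S : Subgroup G) : Set G)) ∨
      FiveData π E

/-- `U34Suzuki.lean` -/
def U34SuzukiStmt : Prop :=
  ∀ (π : Set ℕ) (G : Type u) [Group G] [Finite G], Ctx π G → Local π G →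
    ∀ (S : Sylow 2 G) (E : Subgroup G), U34Type S E →
      (∀ n ∈ normalizer ((S : Subgroup G) : Set G), n ∈ centralizer (E : Set G) →
        Odd (orderOf n) → n ∈ centralizer ((S : Subgroup G) : Set G)) → False

/-- `FiveKill.lean`: transfer for the prime 5. -/
def FiveKillStmt : Prop :=
  ∀ (π : Set ℕ) (G : Type u) [Group G] [Finite G], Ctx π G → Local π G →
    ∀ (S : Sylow 2 G) (E : Subgroup G), RankTwo S E → FiveData π E → False

/-- `Main.lean` -/
def CtxFalseStmt : Prop :=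
  ∀ (π : Set ℕ) (G : Type u) [Group G] [Finite G], Ctx π G → False

end Cfsg.Agent.PiHom23
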