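import Cfsg.Agent.PiHom23.Defs
import Cfsg.Agent.GW66.Coprime
import Cfsg.Agent.H40.Hyperplane
import Cfsg.Agent.Signal38.Basic
import Cfsg.Agent.TwoFusionB.StronglyEmbedded
import Cfsg.Agent.UnbalTriple.Scn3
import Mathlib.GroupTheory.GroupAction.ConjAct

/-!
# S3258: a proper `coreW` is impossible

`N(coreW S)` (or `N(S)` if `coreW S = 1`) is strongly embedded, and then all its involutions are
congruent modulo its π'-part, which is absurd.
-/

set_option autoImplicit false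

open Subgroup

namespace Cfsg.Agent.PiHom23

universe u

namespace EmbeddedAux

variable {G : Type u} [Group G] {π : Set ℕ}

theorem ne_one_of_orderOf_two {t : G} (ht : orderOf t = 2) : t ≠ 1 := by
  rintro rfl
  simp at ht

/-- A π'-element of `U` lies in a normal subgroup with π-index. -/
theorem mem_of_piPrime [Finite G] {K U : Subgroup G} (hKU : K ≤ U)
    (hUK : U ≤ normalizer (K : Set G))
    (hrel : ∀ p : ℕ, p.Prime → p ∣ K.relIndex U → p ∈ π) {x : G} (hx : x ∈ U)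
    (hord : ∀ p : ℕ, p.Prime → p ∣ orderOf x → p ∉ π) : x ∈ K := by
  have : (K.subgroupOf U).Normal := (normal_subgroupOf_iff_le_normalizer hKU).mpr hUK
  have hcop : (orderOf x).Coprime (K.relIndex U) :=
    Nat.coprime_of_dvd fun p hp h1 h2 => hord p hp h1 (hrel p hp h2)
  have h1 : orderOf (QuotientGroup.mk' (K.subgroupOf U) ⟨x, hx⟩) ∣ orderOf x := by
    refine (orderOf_map_dvd _ _).trans ?_
    rw [Subgroup.orderOf_mk]
  have h2 : orderOf (QuotientGroup.mk' (K.subgroupOf U) ⟨x, hx⟩) ∣ K.relIndex U :=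
    orderOf_dvd_natCard _
  have h := orderOf_eq_one_iff.mp (Nat.eq_one_of_dvd_coprimes hcop h1 h2)
  simpa [mem_subgroupOf] using (QuotientGroup.eq_one_iff _).mp h

theorem exists_conj_le_sylow [Finite G] (S : Sylow 2 G) {T : Subgroup G} (hT : IsPGroup 2 T) :
    ∃ h : G, ∀ x ∈ T, h * x * h⁻¹ ∈ (S : Subgroup G) := by
  have := Fact.mk Nat.prime_two
  obtain ⟨P, hP⟩ := hT.exists_le_sylow
  obtain ⟨g, rfl⟩ := MulAction.exists_smul_eq G P S
  exact ⟨g, fun x hx => ⟨x, hP hx, rfl⟩⟩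

theorem isPGroup_zpowers {t : G} (ht : orderOf t = 2) : IsPGroup 2 (zpowers t) :=
  IsPGroup.of_card (n := 1) (by rw [Nat.card_zpowers, ht, pow_one])

theorem mem_omega_orderOf {S : Subgroup G} {a : G} (ha : a ∈ omegaZ S) (ha1 : a ≠ 1) :
    orderOf a = 2 :=
  orderOf_eq_prime (p := 2) (by rw [sq, ha.2.1]) ha1

theorem conj_mem_omega {S : Subgroup G} {n a : G} (hn : n ∈ normalizer (S : Set G))
    (ha : a ∈ omegaZ S) : n * a * n⁻¹ ∈ omegaZ S := by
  refine ⟨(mem_normalizer_iff.mp hn a).mp ha.1, ?_, fun s hs => ?_⟩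
  · rw [show n * a * n⁻¹ * (n * a * n⁻¹) = n * (a * a) * n⁻¹ by group, ha.2.1, mul_one,
      mul_inv_cancel]
  · have hs' : n⁻¹ * s * n ∈ S := by
      simpa [mul_assoc] using (mem_normalizer_iff.mp (inv_mem hn) s).mp hs
    calc n * a * n⁻¹ * s = n * (a * (n⁻¹ * s * n)) * n⁻¹ := by group
      _ = n * (n⁻¹ * s * n * a) * n⁻¹ := by rw [ha.2.2 _ hs']
      _ = s * (n * a * n⁻¹) := by group

theorem normalizer_le_normalizer_coreW [Finite G] (S : Subgroup G) :
    normalizer (S : Set G) ≤ normalizer (coreW S : Set G) := by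
  intro n hn
  refine Coprime.le_normalizer_of_conj_mem (A := normalizer (S : Set G)) ?_ hn
  intro m hm x hx
  have hle : (coreW S).map (MulAut.conj m).toMonoidHom ≤ coreW S := by
    rw [coreW, Subgroup.map_iSup]
    refine iSup_le fun a => ?_
    rw [UnbalTriple.map_centralizerPPrimeCore]
    refine le_iSup (fun b : {b : G // b ∈ omegaZ S ∧ b ≠ 1} =>
      Cfsg.centralizerPPrimeCore 2 (b : G)) ⟨m * (a : G) * m⁻¹, conj_mem_omega hm a.2.1, ?_⟩
    intro h
    exact a.2.2 (by simpa using h)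
  exact hle ⟨x, hx, rfl⟩

/-- The facts about the subgroup `M` used below. -/
structure Over (S : Subgroup G) (M : Subgroup G) : Prop where
  ne_top : M ≠ ⊤
  normalizer_le : normalizer (S : Set G) ≤ M
  centralizer_le : ∀ a ∈ omegaZ S, a ≠ 1 → centralizer ({a} : Set G) ≤ M

theorem exists_over [Finite G] (hL : Local π G) (S : Sylow 2 G)
    (hW : coreW (S : Subgroup G) ≠ ⊤) : ∃ M : Subgroup G, Over (S : Subgroup G) M := by
  have := Fact.mk Nat.prime_two
  have hcore : ∀ a ∈ omegaZ (S : Subgroup G), a ≠ 1 → ∀ u ∈ centralizer ({a} : Set G),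
      ∃ k ∈ coreW (S : Subgroup G), ∃ n ∈ normalizer ((S : Subgroup G) : Set G), u = k * n := by
    intro a ha ha1 u hu
    have hSU : (S : Subgroup G) ≤ centralizer ({a} : Set G) := fun s hs =>
      mem_centralizer_singleton_iff.mpr (ha.2.2 s hs).symm
    have hsyl : SylowIn 2 (S : Subgroup G) (centralizer ({a} : Set G)) := by
      refine ⟨hSU, S.2, fun h => S.not_dvd_index' ?_ (h.trans ⟨_, (relIndex_mul_index hSU).symm⟩)⟩
      exact Subgroup.index_ne_zero_of_finite
    obtain ⟨K, hKU, hUK, hK, hdec⟩ := hL.layer _ (hL.centNe a ha1) _ hsyl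
    obtain ⟨k, hk, n, -, hn, rfl⟩ := hdec u hu
    refine ⟨k, ?_, n, hn, rfl⟩
    exact le_iSup (fun b : {b : G // b ∈ omegaZ (S : Subgroup G) ∧ b ≠ 1} =>
      Cfsg.centralizerPPrimeCore 2 (b : G)) ⟨a, ha, ha1⟩
      (Signal38.le_centralizerPPrimeCore_of_le_normalizer hKU hUK
        (Nat.coprime_two_right.mpr hK) hk)
  by_cases hbot : coreW (S : Subgroup G) = ⊥
  · refine ⟨normalizer ((S : Subgroup G) : Set G), ⟨fun h => hL.notNormal S
      (normalizer_eq_top_iff.mp h), le_rfl, fun a ha ha1 u hu => ?_⟩⟩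
    obtain ⟨k, hk, n, hn, rfl⟩ := hcore a ha ha1 u hu
    rw [hbot, mem_bot] at hk
    rwa [hk, one_mul]
  · refine ⟨normalizer (coreW (S : Subgroup G) : Set G), ⟨hL.normNe _ hbot hW,
      normalizer_le_normalizer_coreW _, fun a ha ha1 u hu => ?_⟩⟩
    obtain ⟨k, hk, n, hn, rfl⟩ := hcore a ha ha1 u hu
    exact mul_mem (le_normalizer hk) (normalizer_le_normalizer_coreW _ hn)

section Over

variable {S : Sylow 2 G} {M : Subgroup G}

theorem omega_facts [Finite G] (hL : Local π G) (S : Sylow 2 G) :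
    ∃ a ∈ omegaZ (S : Subgroup G), ∃ b ∈ omegaZ (S : Subgroup G),
      a ≠ 1 ∧ b ≠ 1 ∧ a ≠ b := by
  obtain ⟨a, haS, b, hbS, ha2, hb2, hab, hac, hbc⟩ := hL.centre S
  exact ⟨a, ⟨haS, TwoFusionB.sq_eq_one_of_inv ha2, hac⟩, b,
    ⟨hbS, TwoFusionB.sq_eq_one_of_inv hb2, hbc⟩, ne_one_of_orderOf_two ha2,
    ne_one_of_orderOf_two hb2, hab⟩

/-- An element carrying a central involution of `S` into `S` lies in `M`. -/
theorem mem_of_conj_mem (hL : Local π G) (hM : Over (S : Subgroup G) M) {a g : G}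
    (ha : a ∈ omegaZ (S : Subgroup G)) (ha1 : a ≠ 1) (hg : g * a * g⁻¹ ∈ (S : Subgroup G)) :
    g ∈ M := by
  obtain ⟨n, hn, hna⟩ := hL.fusion S (zpowers a) g (zpowers_le.mpr ha.1) (by
    rintro _ ⟨i, rfl⟩
    simpa only [conj_zpow] using zpow_mem hg i)
  have hc : n⁻¹ * g ∈ centralizer ({a} : Set G) := by
    rw [mem_centralizer_singleton_iff]
    calc n⁻¹ * g * a = n⁻¹ * (g * a * g⁻¹) * g := by group
      _ = n⁻¹ * (n * a * n⁻¹) * g := by rw [hna a (mem_zpowers a)]
      _ = a * (n⁻¹ * g) := by group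
  simpa using mul_mem (hM.normalizer_le hn) (hM.centralizer_le a ha ha1 hc)

/-- The centraliser of every involution of `S` lies in `M`. -/
theorem centralizer_le [Finite G] (hL : Local π G) (hM : Over (S : Subgroup G) M) {t : G}
    (htS : t ∈ (S : Subgroup G)) (ht : orderOf t = 2) : centralizer ({t} : Set G) ≤ M := by
  classical
  have := Fact.mk Nat.prime_two
  set U := centralizer ({t} : Set G)
  set Z := omegaZ (S : Subgroup G) with hZdef
  have hZU : Z ≤ U := fun z hz => mem_centralizer_singleton_iff.mpr (hz.2.2 t htS)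
  have hZ2 : IsPGroup 2 Z := S.2.to_le fun z hz => hz.1
  obtain ⟨P, hP⟩ := (hZ2.comap_of_injective U.subtype U.subtype_injective).exists_le_sylow
  set T := (P : Subgroup U).map U.subtype with hT
  have hTU : T ≤ U := map_subtype_le _
  have hsyl : SylowIn 2 T U := by
    refine ⟨hTU, P.2.map _, ?_⟩
    have e : T.relIndex U = (P : Subgroup U).index := by
      rw [relIndex, hT, ← comap_subtype, comap_map_eq_self_of_injective U.subtype_injective]
    rw [e]
    exact P.not_dvd_index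
  have hZT : Z ≤ T := fun z hz => ⟨⟨z, hZU hz⟩, hP (show (⟨z, hZU hz⟩ : U) ∈ Z.comap U.subtype from hz), rfl⟩
  obtain ⟨h, hh⟩ := exists_conj_le_sylow S hsyl.2.1
  obtain ⟨a, ha, b, hb, ha1, hb1, hab⟩ := omega_facts hL S
  have hhM : h ∈ M := mem_of_conj_mem hL hM ha ha1 (hh a (hZT ha))
  obtain ⟨K, hKU, hUK, hK, hdec⟩ := hL.layer U (hL.centNe t (ne_one_of_orderOf_two ht)) T hsyl
  intro u hu
  obtain ⟨k, hk, n, -, hn, rfl⟩ := hdec u hu
  have hnM : n ∈ M := by
    have h1 : h * n * a * (h * n)⁻¹ ∈ (S : Subgroup G) := by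
      rw [show h * n * a * (h * n)⁻¹ = h * (n * a * n⁻¹) * h⁻¹ by group]
      exact hh _ ((mem_normalizer_iff.mp hn a).mp (hZT ha))
    simpa using mul_mem (inv_mem hhM) (mem_of_conj_mem hL hM ha ha1 h1)
  refine mul_mem ?_ hnM
  have hZe : Cfsg.IsElementaryAbelian 2 Z :=
    ⟨⟨⟨fun x y => Subtype.ext (x.2.2.2 _ y.2.1)⟩⟩, fun x hx => by rw [sq]; exact hx.2.1⟩
  have h4 : 4 ≤ Nat.card Z := by
    obtain ⟨k, hk⟩ := hZ2.exists_card_eq
    have h3 : 3 ≤ Nat.card Z := by
      have hsub : ({1, a, b} : Set G) ⊆ (Z : Set G) := by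
        rintro x (rfl | rfl | rfl)
        exacts [one_mem _, ha, hb]
      have := Set.ncard_le_ncard hsub (Set.toFinite _)
      rw [Set.ncard_insert_of_notMem (by simp [ha1.symm, hb1.symm]), Set.ncard_pair hab,
        ← Nat.card_coe_set_eq] at this
      exact this
    rcases k with _ | _ | k
    · simp [hk] at h3
    · simp [hk] at h3
    · rw [hk, pow_succ, pow_succ]
      have := Nat.two_pow_pos k
      omega
  have hgen := H40.le_iSup_hyperplane (p := 2) hZe (X := K)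
    (Nat.odd_iff.mp hK |> fun h2 hd => by omega) (hZU.trans hUK)
  suffices h : K ≤ M from h hk
  refine hgen.trans (iSup_le fun B => ?_)
  obtain ⟨B, hBZ, hB⟩ := B
  have hBne : B ≠ ⊥ := by
    rintro rfl
    rw [relIndex_bot_left] at hB
    omega
  obtain ⟨e, he, he1⟩ := (ne_bot_iff_exists_ne_one).mp hBne |> fun ⟨e, he⟩ =>
    (⟨(e : G), e.2, fun h => he (Subtype.ext h)⟩ : ∃ e ∈ B, e ≠ 1)
  refine inf_le_right.trans (le_trans ?_ (hM.centralizer_le e (hBZ he) he1))
  exact Subgroup.centralizer_le (Set.singleton_subset_iff.mpr he)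

theorem exists_conj_mem_sylow [Finite G] (hM : Over (S : Subgroup G) M) {t : G} (htM : t ∈ M)
    (ht : orderOf t = 2) : ∃ m ∈ M, m * t * m⁻¹ ∈ (S : Subgroup G) := by
  have := Fact.mk Nat.prime_two
  have hSM : (S : Subgroup G) ≤ M := le_normalizer.trans hM.normalizer_le
  obtain ⟨m, hm⟩ := exists_conj_le_sylow (S.subtype hSM)
    (isPGroup_zpowers (t := (⟨t, htM⟩ : M)) (by rw [Subgroup.orderOf_mk]; exact ht))
  exact ⟨m, m.2, by simpa [mem_subgroupOf] using hm _ (mem_zpowers _)⟩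

theorem stronglyEmbedded [Finite G] (hL : Local π G) (hM : Over (S : Subgroup G) M) :
    Cfsg.IsStronglyEmbedded M := by
  have := Fact.mk Nat.prime_two
  have hSM : (S : Subgroup G) ≤ M := le_normalizer.trans hM.normalizer_le
  obtain ⟨a, ha, -, -, ha1, -, -⟩ := omega_facts hL S
  refine ⟨hM.ne_top, TwoFusionB.even_card_of_mem_inv (mem_omega_orderOf ha ha1) (hSM ha.1),
    fun g hg => ?_⟩
  by_contra hodd
  obtain ⟨x, hx⟩ := exists_prime_orderOf_dvd_card' 2
    (even_iff_two_dvd.mp (Nat.not_odd_iff_even.mp hodd))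
  obtain ⟨hxM, t, htM, htx⟩ := x.2
  rw [← Subgroup.orderOf_coe] at hx
  simp only [MulEquiv.coe_toMonoidHom, MulAut.conj_apply] at htx
  have ht : orderOf t = 2 := by
    rw [← TwoFusionB.orderOf_conj_eq g t, htx]
    exact hx
  obtain ⟨m₁, hm₁, hs₁⟩ := exists_conj_mem_sylow hM htM ht
  obtain ⟨m₂, hm₂, hs₂⟩ := exists_conj_mem_sylow hM hxM hx
  set g' := m₂ * g * m₁⁻¹ with hg'
  have hmap : g' * (m₁ * t * m₁⁻¹) * g'⁻¹ = m₂ * (x : G) * m₂⁻¹ := by
    rw [hg', ← htx]
    group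
  obtain ⟨n, hn, hna⟩ := hL.fusion S (zpowers (m₁ * t * m₁⁻¹)) g' (zpowers_le.mpr hs₁) (by
    intro y hy
    obtain ⟨i, rfl⟩ := mem_zpowers_iff.mp hy
    rw [← conj_zpow, hmap]
    exact zpow_mem hs₂ i)
  have hc : n⁻¹ * g' ∈ centralizer ({m₁ * t * m₁⁻¹} : Set G) := by
    rw [mem_centralizer_singleton_iff]
    calc n⁻¹ * g' * (m₁ * t * m₁⁻¹) = n⁻¹ * (g' * (m₁ * t * m₁⁻¹) * g'⁻¹) * g' := by group
      _ = n⁻¹ * (n * (m₁ * t * m₁⁻¹) * n⁻¹) * g' := by rw [hna _ (mem_zpowers _)]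
      _ = m₁ * t * m₁⁻¹ * (n⁻¹ * g') := by group
  have hg'M : g' ∈ M := by
    have h1 := centralizer_le hL hM hs₁
      ((TwoFusionB.orderOf_conj_eq m₁ t).trans ht) hc
    simpa using mul_mem (hM.normalizer_le hn) h1
  apply hg
  rw [show g = m₂⁻¹ * g' * m₁ by rw [hg']; group]
  exact mul_mem (mul_mem (inv_mem hm₂) hg'M) hm₁

end Over

end EmbeddedAux

open EmbeddedAux TwoFusionB in
/-- A proper `coreW` is impossible. -/
theorem embedded : EmbeddedStmt.{u} := by
  intro π G _ _ hctx hL S hW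
  classical
  have := Fact.mk Nat.prime_two
  obtain ⟨M, hM⟩ := exists_over hL S hW
  have hSE := stronglyEmbedded hL hM
  have hSM : (S : Subgroup G) ≤ M := le_normalizer.trans hM.normalizer_le
  obtain ⟨g, hg⟩ : ∃ g, g ∉ M := by
    by_contra h
    push Not at h
    exact hM.ne_top (eq_top_iff.mpr fun x _ => h x)
  have hne : (QuotientGroup.mk 1 : G ⧸ M) ≠ QuotientGroup.mk g := by
    rw [Ne, QuotientGroup.eq]
    simpa using hg
  obtain ⟨u, hu, huy⟩ := exists_moveInv hSE hne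
  have huM : u ∉ M := fun h => hne (by rw [← huy, smul_one_eq_iff.mpr h])
  have huy' : (QuotientGroup.mk u : G ⧸ M) = QuotientGroup.mk g := by
    rw [← huy, MulAction.Quotient.smul_mk, smul_eq_mul, mul_one]
  have huu := sq_eq_one_of_inv hu
  set D := M ⊓ M.map (MulAut.conj u).toMonoidHom with hD
  have hDodd : Odd (Nat.card D) := hSE.2.2 u huM
  have hDne : D ≠ ⊤ := fun h => hM.ne_top (eq_top_iff.mpr (h ▸ inf_le_left))
  have hDu : ∀ d ∈ D, u * d * u⁻¹ ∈ D := by
    rintro d ⟨hdM, e, he, hed⟩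
    simp only [MulEquiv.coe_toMonoidHom, MulAut.conj_apply] at hed
    refine ⟨?_, d, hdM, rfl⟩
    rw [← hed, GW66.invol_conj_twice huu]
    exact he
  obtain ⟨K, hKD, hDK, hKπ, hKrel⟩ := hctx.proper D hDne
  have hKodd : Odd (Nat.card K) := hDodd.of_dvd_nat (card_dvd_of_le hKD)
  have hKu : ∀ k ∈ K, u * k * u⁻¹ ∈ K := fun k hk =>
    mem_of_piPrime hKD hDK hKrel (hDu k (hKD hk)) fun p hp h => by
      rw [orderOf_conj_eq] at h
      exact hKπ p hp (h.trans (orderOf_dvd_natCard K hk))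
  have huK : u ∈ normalizer (K : Set G) := by
    rw [mem_normalizer_iff]
    refine fun k => ⟨hKu k, fun h => ?_⟩
    have := hKu _ h
    rwa [GW66.invol_conj_twice huu] at this
  -- the involutions moving `M` to `uM` correspond to the inverted elements of `K`
  set n := Nat.card (FixInv M (QuotientGroup.mk 1 : G ⧸ M)) with hn
  have hinvD : ∀ d ∈ D, u * d * u⁻¹ = d⁻¹ → d ∈ K := fun d hd hdi =>
    mem_of_piPrime hKD hDK hKrel hd
      (hL.inverted u d huu (hDodd.of_dvd_nat (orderOf_dvd_natCard D hd)) hdi)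
  have hcount : {x : G | x ∈ K ∧ u * x * u⁻¹ = x⁻¹}.ncard = n := by
    rw [hn, ← card_moveInv hSE hne, ← Nat.card_coe_set_eq]
    refine (Nat.card_congr (Equiv.subtypeEquiv (Equiv.mulLeft u) fun w => ?_)).symm
    simp only [Equiv.coe_mulLeft, Set.mem_ofPred_eq]
    constructor
    · rintro ⟨hw, hwy⟩
      rw [MulAction.Quotient.smul_mk, smul_eq_mul, mul_one, ← huy', QuotientGroup.eq] at hwy
      have hwu : u * w ∈ M := by
        simpa [inv_eq_of_inv hu] using inv_mem hwy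
      have hdi : u * (u * w) * u⁻¹ = (u * w)⁻¹ := by
        rw [← mul_assoc, huu, one_mul, mul_inv_rev, inv_eq_of_inv hw]
      have huwD : u * w ∈ D := by
        refine ⟨hwu, u * (u * w) * u⁻¹, hdi ▸ inv_mem hwu, ?_⟩
        simp only [MulEquiv.coe_toMonoidHom, MulAut.conj_apply]
        exact GW66.invol_conj_twice huu _
      exact ⟨hinvD _ huwD hdi, hdi⟩
    · rintro ⟨hwK, hdi⟩
      have hwu : u * w ∈ M := (hKD hwK).1
      refine ⟨orderOf_eq_prime (p := 2) ?_ ?_, ?_⟩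
      · have h1 : u * (u * w) * u⁻¹ = w * u⁻¹ := by rw [← mul_assoc, huu, one_mul]
        rw [h1, mul_inv_rev, mul_left_inj] at hdi
        rw [sq]
        nth_rewrite 1 [hdi]
        exact inv_mul_cancel w
      · rintro rfl
        exact huM (by simpa using hwu)
      · rw [MulAction.Quotient.smul_mk, smul_eq_mul, mul_one, ← huy', QuotientGroup.eq]
        simpa [inv_eq_of_inv hu] using inv_mem hwu
  have hnπ : ∀ p : ℕ, p.Prime → p ∣ n → p ∉ π := fun p hp h => by
    refine hKπ p hp (h.trans ?_)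
    rw [← GW66.ncard_inverted_mul_card huu hKodd huK, hcount]
    exact dvd_mul_right _ _
  -- all involutions of `M` are congruent modulo the π'-part of `M`
  obtain ⟨N, hNM, hMN, hNπ, hNrel⟩ := hctx.proper M hM.ne_top
  have hNnormal : (N.subgroupOf M).Normal := (normal_subgroupOf_iff_le_normalizer hNM).mpr hMN
  obtain ⟨a, ha, b, hb, ha1, hb1, hab⟩ := omega_facts hL S
  have ha2 := mem_omega_orderOf ha ha1
  have htrans : ∀ t ∈ M, orderOf t = 2 → ∃ d ∈ M, d * a * d⁻¹ = t := by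
    intro t htM ht
    obtain ⟨d, -, hd1, hd⟩ := exists_conj_fix hSE hne.symm ha2
      (smul_one_eq_iff.mpr (hSM ha.1)) ht (smul_one_eq_iff.mpr htM)
    exact ⟨d, smul_one_eq_iff.mp hd1, hd⟩
  set aM : M := ⟨a, hSM ha.1⟩ with haM
  set C := MulAction.stabilizer (ConjAct M) aM with hC
  have hCn : C.index = n := by
    rw [hC, MulAction.index_stabilizer, hn, ← Nat.card_coe_set_eq]
    refine Nat.card_congr
      { toFun := fun t => ⟨(t.1 : M), ?_, smul_one_eq_iff.mpr t.1.2⟩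
        invFun := fun t => ⟨⟨t.1, smul_one_eq_iff.mp t.2.2⟩, ?_⟩
        left_inv := fun t => rfl
        right_inv := fun t => rfl }
    · obtain ⟨d, hd⟩ := t.2
      rw [← hd]
      simp only [ConjAct.smul_def, Subgroup.coe_mul, InvMemClass.coe_inv]
      rw [orderOf_conj_eq]
      exact ha2
    · obtain ⟨d, hdM, hd⟩ := htrans t.1 (smul_one_eq_iff.mp t.2.2) t.2.1
      exact ⟨ConjAct.toConjAct ⟨d, hdM⟩, Subtype.ext hd⟩
  set φ : M →* M ⧸ N.subgroupOf M := QuotientGroup.mk' _ with hφ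
  let ψ : ConjAct M →* M ⧸ N.subgroupOf M := φ.comp ConjAct.ofConjAct.toMonoidHom
  have hψ : Function.Surjective ψ :=
    (QuotientGroup.mk'_surjective (N.subgroupOf M)).comp ConjAct.ofConjAct.surjective
  set P := (centralizer ({φ aM} : Set (M ⧸ N.subgroupOf M))).comap ψ with hP
  have hCP : C ≤ P := by
    intro d hd
    rw [hP, mem_comap, mem_centralizer_singleton_iff]
    have h : ConjAct.ofConjAct d * aM * (ConjAct.ofConjAct d)⁻¹ = aM := hd
    have h' : ConjAct.ofConjAct d * aM = aM * ConjAct.ofConjAct d := mul_inv_eq_iff_eq_mul.mp h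
    simp only [ψ, MonoidHom.coe_comp, Function.comp_apply, ← map_mul]
    exact congrArg φ h'
  have hcent : centralizer ({φ aM} : Set (M ⧸ N.subgroupOf M)) = ⊤ := by
    rw [← index_eq_one]
    by_contra hne1
    obtain ⟨p, hp, hpd⟩ := Nat.exists_prime_and_dvd hne1
    refine hnπ p hp ?_ (hNrel p hp (hpd.trans (index_dvd_card _)))
    rw [← hCn]
    rw [← index_comap_of_surjective _ hψ] at hpd
    exact hpd.trans (index_dvd_of_le hCP)
  obtain ⟨d, hdM, hd⟩ := htrans b (hSM hb.1) (mem_omega_orderOf hb hb1)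
  have heq : φ (⟨b, hSM hb.1⟩ : M) = φ aM := by
    have e : (⟨b, hSM hb.1⟩ : M) = ⟨d, hdM⟩ * aM * ⟨d, hdM⟩⁻¹ := Subtype.ext hd.symm
    rw [e, map_mul, map_mul, map_inv]
    have hmem : φ ⟨d, hdM⟩ ∈ centralizer ({φ aM} : Set (M ⧸ N.subgroupOf M)) :=
      hcent ▸ mem_top _
    rw [mem_centralizer_singleton_iff.mp hmem, mul_inv_cancel_right]
  have hN : a⁻¹ * b ∈ N := by
    have h := (QuotientGroup.eq.mp heq.symm : aM⁻¹ * ⟨b, hSM hb.1⟩ ∈ N.subgroupOf M)
    simpa [mem_subgroupOf] using h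
  have ho : orderOf (a⁻¹ * b) = 2 := by
    refine orderOf_eq_prime (p := 2) ?_ fun h => hab (inv_mul_eq_one.mp h)
    have hc : a * b = b * a := ha.2.2 b hb.1
    rw [sq, inv_eq_of_mul_eq_one_right ha.2.1, show a * b * (a * b) = a * b * (b * a) by rw [← hc],
      show a * b * (b * a) = a * (b * b) * a by group, hb.2.1, mul_one, ha.2.1]
  exact hNπ 2 Nat.prime_two (ho ▸ orderOf_dvd_natCard N hN) hctx.two_mem

end Cfsg.Agent.PiHom23
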