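import Cfsg.Agent.PiHom23.Defs
import Cfsg.Agent.Lib.Coprime.Action
import Mathlib.GroupTheory.Transfer
import Mathlib.GroupTheory.Nilpotent

/-!
# The transfer for the prime 5

In the rank two case a linear character of `N(E)` nontrivial on a 5-element contradicts simplicity.
-/

set_option autoImplicit false
set_option linter.style.haveILetI false

namespace Cfsg.Agent.PiHom23

universe u

namespace Five

open Subgroup

variable {G : Type u} [Group G] [Finite G] {π : Set ℕ} {S : Sylow 2 G} {E : Subgroup G}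

/-- An element conjugating `E` into itself normalises it. -/
theorem mem_normalizer_of_conj_mem {n : G} (h : ∀ e ∈ E, n * e * n⁻¹ ∈ E) :
    n ∈ normalizer (E : Set G) := by
  rw [Subgroup.mem_normalizer_iff_map_conj_eq]
  refine Subgroup.eq_of_le_of_card_ge ?_ (Nat.card_congr
    (Subgroup.equivMapOfInjective _ _ (MulAut.conj n).injective).toEquiv).le
  rintro _ ⟨e, he, rfl⟩
  exact h e he

/-- A 2-group over `E` has all its involutions in `E`. -/
theorem mem_of_involution (hR : RankTwo S E) {T : Subgroup G} (hT : IsPGroup 2 T) (hET : E ≤ T)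
    {i : G} (hi : i ∈ T) (hi2 : i * i = 1) : i ∈ E := by
  haveI : Fact (Nat.Prime 2) := ⟨Nat.prime_two⟩
  obtain ⟨Q, hQ⟩ := hT.exists_le_sylow
  obtain ⟨g, hg⟩ := MulAction.exists_smul_eq G Q S
  have hsub : ∀ y ∈ T, g * y * g⁻¹ ∈ (S : Subgroup G) := fun y hy => by
    rw [← hg, Sylow.coe_subgroup_smul, Subgroup.mem_pointwise_smul_iff_inv_smul_mem, ← map_inv,
      MulAut.smul_def, MulAut.conj_apply]
    simpa [mul_assoc] using hQ hy
  have hinv : ∀ y ∈ T, y * y = 1 → g * y * g⁻¹ ∈ E := fun y hy hy2 =>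
    (hR.mem_iff _ (hsub y hy)).mp (by
      rw [show g * y * g⁻¹ * (g * y * g⁻¹) = g * (y * y) * g⁻¹ by group, hy2, mul_one,
        mul_inv_cancel])
  have hgn : g ∈ normalizer (E : Set G) := mem_normalizer_of_conj_mem fun e he =>
    hinv e (hET he) ((hR.mem_iff e (hR.le he)).mpr he)
  exact (Subgroup.mem_normalizer_iff.mp hgn i).mpr (hinv i hi hi2)

/-- Conjugates of `E` inside a subgroup over `E` are conjugate there. -/
theorem exists_mem_normalizer (hR : RankTwo S E) {U : Subgroup G} (hEU : E ≤ U) (g : G)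
    (hg : ∀ e ∈ E, g⁻¹ * e * g ∈ U) : ∃ c ∈ U, g * c ∈ normalizer (E : Set G) := by
  haveI : Fact (Nat.Prime 2) := ⟨Nat.prime_two⟩
  have hE2 : IsPGroup 2 E := IsPGroup.of_card (n := 2) (by rw [hR.card_E]; norm_num)
  obtain ⟨T, hT⟩ := (hE2.of_equiv (Subgroup.subgroupOfEquivOfLe hEU).symm :
    IsPGroup 2 (E.subgroupOf U)).exists_le_sylow
  set E' : Subgroup G := E.map (MulAut.conj g⁻¹).toMonoidHom with hE'
  have hE'U : E' ≤ U := by
    rintro _ ⟨e, he, rfl⟩
    simpa using hg e he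
  obtain ⟨T', hT'⟩ := ((hE2.map (MulAut.conj g⁻¹).toMonoidHom).of_equiv
    (Subgroup.subgroupOfEquivOfLe hE'U).symm : IsPGroup 2 (E'.subgroupOf U)).exists_le_sylow
  obtain ⟨c, hc⟩ := MulAction.exists_smul_eq U T' T
  refine ⟨((c : G))⁻¹, inv_mem c.2, ?_⟩
  have key : ∀ e ∈ E, (c : G) * (g⁻¹ * e * g) * (c : G)⁻¹ ∈ E := by
    intro e he
    have hy : (⟨g⁻¹ * e * g, hg e he⟩ : U) ∈ (T' : Subgroup U) :=
      hT' (Subgroup.mem_subgroupOf.mpr ⟨e, he, by simp⟩)
    have hmem : c * ⟨g⁻¹ * e * g, hg e he⟩ * c⁻¹ ∈ (T : Subgroup U) := by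
      rw [← hc, Sylow.coe_subgroup_smul, Subgroup.mem_pointwise_smul_iff_inv_smul_mem, ← map_inv,
        MulAut.smul_def, MulAut.conj_apply]
      simpa [mul_assoc] using hy
    refine mem_of_involution hR (T.isPGroup'.map U.subtype)
      (fun e' he' => ⟨⟨e', hEU he'⟩, hT (Subgroup.mem_subgroupOf.mpr he'), rfl⟩)
      ⟨_, hmem, rfl⟩ ?_
    have he2 : e * e = 1 := (hR.mem_iff e (hR.le he)).mpr he
    rw [show (c : G) * (g⁻¹ * e * g) * (c : G)⁻¹ * ((c : G) * (g⁻¹ * e * g) * (c : G)⁻¹)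
      = (c : G) * g⁻¹ * (e * e) * g * (c : G)⁻¹ by group, he2]
    group
  have hn : (c : G) * g⁻¹ ∈ normalizer (E : Set G) := mem_normalizer_of_conj_mem fun e he => by
    rw [show (c : G) * g⁻¹ * e * ((c : G) * g⁻¹)⁻¹ = (c : G) * (g⁻¹ * e * g) * (c : G)⁻¹ by group]
    exact key e he
  simpa using inv_mem hn

/-- The 5-part of `N(E)` is that of the normaliser of its Sylow 5-subgroup. -/
theorem not_dvd_relIndex (hloc : Local π G) (h5 : 5 ∈ π) (hR : RankTwo S E) {P : Subgroup G}
    (hPE : P ≤ centralizer (E : Set G))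
    (hUtop : centralizer (P : Set G) ≠ ⊤) :
    ¬ 5 ∣ (normalizer (E : Set G)).relIndex (normalizer (P : Set G)) := by
  haveI : Fact (Nat.Prime 2) := ⟨Nat.prime_two⟩
  haveI : Fact (Nat.Prime 5) := ⟨Nat.prime_five⟩
  set Nm := normalizer (E : Set G) with hNm
  set U := centralizer (P : Set G) with hU
  have hE2 : IsPGroup 2 E := IsPGroup.of_card (n := 2) (by rw [hR.card_E]; norm_num)
  have hEU : E ≤ U := fun e he => Subgroup.mem_centralizer_iff.mpr fun y hy =>
    (Subgroup.mem_centralizer_iff.mp (hPE hy) e he).symm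
  obtain ⟨T₀, hT₀⟩ := (hE2.of_equiv (Subgroup.subgroupOfEquivOfLe hEU).symm :
    IsPGroup 2 (E.subgroupOf U)).exists_le_sylow
  set T : Subgroup G := (T₀ : Subgroup U).map U.subtype with hT
  have hTU : T ≤ U := Subgroup.map_subtype_le _
  have hTp : IsPGroup 2 T := T₀.isPGroup'.map U.subtype
  have hET : E ≤ T := fun e he => ⟨⟨e, hEU he⟩, hT₀ (Subgroup.mem_subgroupOf.mpr he), rfl⟩
  have hTind : ¬ 2 ∣ T.relIndex U := by
    rw [Subgroup.relIndex, hT, Subgroup.subgroupOf, Subgroup.comap_map_eq_self_of_injective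
      U.subtype_injective]
    exact T₀.not_dvd_index
  obtain ⟨K, hKU, hUK, hKodd, hfac⟩ := hloc.layer U hUtop T ⟨hTU, hTp, hTind⟩
  have hNTE : ∀ n ∈ normalizer (T : Set G), n ∈ Nm := fun n hn =>
    mem_normalizer_of_conj_mem fun e he => mem_of_involution hR hTp hET
      ((Subgroup.mem_normalizer_iff.mp hn e).mp (hET he)) (by
        rw [show n * e * n⁻¹ * (n * e * n⁻¹) = n * (e * e) * n⁻¹ by group,
          (hR.mem_iff e (hR.le he)).mpr he, mul_one, mul_inv_cancel])
  have hUP : U ≤ normalizer (P : Set G) := fun u hu => Subgroup.mem_normalizer_iff.mpr fun y => by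
    constructor
    · intro hy
      rwa [← Subgroup.mem_centralizer_iff.mp hu y hy, mul_inv_cancel_right]
    · intro hy
      have h := Subgroup.mem_centralizer_iff.mp hu _ hy
      have e : u * y * u⁻¹ = y := by
        have h' : u * y = u * (u * y * u⁻¹) := by rw [← h]; group
        exact (mul_left_cancel h').symm
      rwa [e] at hy
  have hEK : E ≤ normalizer (K : Set G) := hEU.trans hUK
  have hKtop : K ≠ ⊤ := fun h => hUtop (top_le_iff.1 (h ▸ hKU))
  have hcop : (Nat.card E).Coprime (Nat.card K) := by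
    rw [hR.card_E, show (4 : ℕ) = 2 ^ 2 by norm_num]
    exact Nat.Coprime.pow_left 2 (Nat.coprime_two_left.mpr hKodd)
  obtain ⟨R, hRn⟩ := Coprime.exists_invariant_sylow E K hEK hcop (Or.inr (hloc.solv K hKtop)) 5
  have hRE : ∀ r ∈ (R : Subgroup K).map K.subtype, r ∈ Nm := by
    intro r hr
    refine mem_normalizer_of_conj_mem fun t ht => ?_
    have ht2 : t * t = 1 := (hR.mem_iff t (hR.le ht)).mpr ht
    have hti : t⁻¹ = t := inv_eq_of_mul_eq_one_right ht2
    have hr' : t * r * t⁻¹ ∈ (R : Subgroup K).map K.subtype :=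
      (Subgroup.mem_normalizer_iff.mp (hRn ht) r).mp hr
    set d := r⁻¹ * (t * r * t⁻¹) with hd
    have hdR : d ∈ (R : Subgroup K).map K.subtype := mul_mem (inv_mem hr) hr'
    have hd5 : ∃ k, orderOf d = 5 ^ k := by
      obtain ⟨k, hk⟩ := IsPGroup.iff_orderOf.1 (R.isPGroup'.map K.subtype) ⟨d, hdR⟩
      exact ⟨k, by rwa [Subgroup.orderOf_mk] at hk⟩
    have hinv : t * d * t⁻¹ = d⁻¹ := by
      rw [hd, hti]
      calc t * (r⁻¹ * (t * r * t)) * t = t * r⁻¹ * t * r * (t * t) := by group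
        _ = t * r⁻¹ * t * r := by rw [ht2, mul_one]
        _ = (r⁻¹ * (t * r * t))⁻¹ := by
          rw [mul_inv_rev, mul_inv_rev, mul_inv_rev, inv_inv, hti]
          group
    have hd1 : d = 1 := by
      obtain ⟨k, hk⟩ := hd5
      rcases Nat.eq_zero_or_pos k with rfl | hk0
      · exact orderOf_eq_one_iff.1 (by simpa using hk)
      · exact absurd h5 (hloc.inverted t d ht2 (hk ▸ Odd.pow (by decide)) hinv 5 Nat.prime_five
          (hk ▸ dvd_pow_self 5 hk0.ne'))
    have hcomm : t * r * t⁻¹ = r := by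
      have := hd1
      rw [hd, inv_mul_eq_one] at this
      exact this.symm
    have : r * t * r⁻¹ = t := by
      rw [mul_inv_eq_iff_eq_mul.mp hcomm |>.symm]
      group
    rw [this]
    exact ht
  have hKP : K ≤ normalizer (P : Set G) := hKU.trans hUP
  have hbij : Function.Bijective (Subgroup.quotientSubgroupOfEmbeddingOfLE Nm hKP) := by
    refine ⟨(Subgroup.quotientSubgroupOfEmbeddingOfLE Nm hKP).injective, fun q => ?_⟩
    obtain ⟨⟨g, hg⟩, rfl⟩ := QuotientGroup.mk_surjective q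
    obtain ⟨c, hc, hgc⟩ := exists_mem_normalizer hR hEU g⁻¹ (fun e he => by
      refine Subgroup.mem_centralizer_iff.mpr fun y hy => ?_
      have hy' : g⁻¹ * y * g ∈ (P : Set G) := by
        simpa using (Subgroup.mem_normalizer_iff.mp (inv_mem hg) y).mp hy
      have h := Subgroup.mem_centralizer_iff.mp (hEU he) (g⁻¹ * y * g) hy'
      simp only [inv_inv]
      calc y * (g * e * g⁻¹) = g * ((g⁻¹ * y * g) * e) * g⁻¹ := by group
        _ = g * (e * (g⁻¹ * y * g)) * g⁻¹ := by rw [h]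
        _ = g * e * g⁻¹ * y := by group)
    obtain ⟨k, hk, n, hnU, hn, rfl⟩ := hfac c hc
    refine ⟨QuotientGroup.mk ⟨k, hk⟩, ?_⟩
    rw [Subgroup.quotientSubgroupOfEmbeddingOfLE_apply_mk, QuotientGroup.eq]
    refine Subgroup.mem_subgroupOf.mpr ?_
    simp only [Subgroup.coe_mul, InvMemClass.coe_inv]
    show k⁻¹ * g ∈ Nm
    have h1 : k⁻¹ * g = n * (g⁻¹ * (k * n))⁻¹ := by group
    rw [h1]
    exact mul_mem (hNTE n hn) (inv_mem hgc)
  rw [Subgroup.relIndex, Subgroup.index, ← Nat.card_congr (Equiv.ofBijective _ hbij)]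
  intro h
  exact R.not_dvd_index (h.trans (Subgroup.index_dvd_of_le fun x hx =>
    Subgroup.mem_subgroupOf.mpr (hRE _ ⟨x, hx, rfl⟩)))

/-- A Sylow 5-subgroup of `N(E)` centralising `E` is Sylow in `G`. -/
theorem exists_sylow_eq (hloc : Local π G) (h5 : 5 ∈ π) (hR : RankTwo S E)
    (P₀ : Sylow 5 (normalizer (E : Set G)))
    (hPE : (P₀ : Subgroup _).map (normalizer (E : Set G)).subtype ≤ centralizer (E : Set G))
    (hUtop : centralizer (((P₀ : Subgroup _).map (normalizer (E : Set G)).subtype : Subgroup G) :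
      Set G) ≠ ⊤) :
    ∃ Q : Sylow 5 G,
      (Q : Subgroup G) = (P₀ : Subgroup _).map (normalizer (E : Set G)).subtype := by
  haveI : Fact (Nat.Prime 5) := ⟨Nat.prime_five⟩
  set P : Subgroup G := (P₀ : Subgroup _).map (normalizer (E : Set G)).subtype with hPdef
  obtain ⟨Q, hQ⟩ := (P₀.isPGroup'.map (normalizer (E : Set G)).subtype : IsPGroup 5 P).exists_le_sylow
  refine ⟨Q, ?_⟩
  by_contra hne
  haveI := Q.isPGroup'.isNilpotent
  have hlt : P.subgroupOf (Q : Subgroup G) < ⊤ := lt_top_iff_ne_top.mpr fun h =>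
    hne (le_antisymm (Subgroup.subgroupOf_eq_top.mp h) hQ)
  obtain ⟨x, hxn, hxP⟩ := SetLike.exists_of_lt (Group.normalizerCondition_of_isNilpotent _ hlt)
  have hxN : (x : G) ∈ normalizer (P : Set G) := by
    refine Coprime.mem_normalizer_of_le_iff (fun u hu => ?_) (fun u hu => ?_)
    · exact Subgroup.mem_normalizer_iff.mp hxn (⟨u, hQ hu⟩ : (Q : Subgroup G)) |>.mp hu
    · have := Subgroup.mem_normalizer_iff.mp (inv_mem hxn) (⟨u, hQ hu⟩ : (Q : Subgroup G)) |>.mp hu
      simpa [Subgroup.mem_subgroupOf, mul_assoc] using this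
  set X : Subgroup G := (Q : Subgroup G) ⊓ normalizer (P : Set G) with hX
  have hPX : P < X := lt_of_le_of_ne (le_inf hQ Subgroup.le_normalizer) fun h =>
    hxP (Subgroup.mem_subgroupOf.mpr (h.symm ▸ (⟨x.2, hxN⟩ : (x : G) ∈ X)))
  obtain ⟨k, hk⟩ := IsPGroup.iff_card.mp
    (Q.isPGroup'.to_le inf_le_left : IsPGroup 5 X)
  have hdvd : 5 ^ k ∣ Nat.card (normalizer (P : Set G)) :=
    hk ▸ Subgroup.card_dvd_of_le inf_le_right
  rw [← Subgroup.card_mul_index ((normalizer (E : Set G)).subgroupOf (normalizer (P : Set G)))] at hdvd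
  have hrel := not_dvd_relIndex hloc h5 hR hPE hUtop
  have h1 : 5 ^ k ∣ Nat.card ((normalizer (E : Set G)).subgroupOf (normalizer (P : Set G))) :=
    (Nat.Coprime.pow_left k ((Nat.Prime.coprime_iff_not_dvd Nat.prime_five).mpr hrel)).dvd_of_dvd_mul_right
      hdvd
  have h2 : 5 ^ k ∣ Nat.card (normalizer (E : Set G)) :=
    h1.trans (Subgroup.card_comap_dvd_of_injective (normalizer (E : Set G)) _ (normalizer (P : Set G)).subtype_injective)
  have h3 : Nat.card X ≤ Nat.card P := by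
    rw [hk, hPdef, Nat.card_congr (Subgroup.equivMapOfInjective _ _
      (normalizer (E : Set G)).subtype_injective).toEquiv.symm, P₀.card_eq_multiplicity]
    exact Nat.pow_le_pow_right (by norm_num)
      ((Nat.Prime.pow_dvd_iff_le_factorization Nat.prime_five Nat.card_pos.ne').mp h2)
  exact absurd (Subgroup.eq_of_le_of_card_ge hPX.le h3) hPX.ne

end Five

open Subgroup in
open scoped commutatorElement in
/-- The prime 5 in the rank two case. -/
theorem fiveKill : FiveKillStmt.{u} := by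
  classical
  intro π G _ _ hctx hloc S E hR hdata
  obtain ⟨h5, A, _, χ, x, ⟨j, hj⟩, hχ⟩ := hdata
  haveI : Fact (Nat.Prime 5) := ⟨Nat.prime_five⟩
  have hxp : IsPGroup 5 (zpowers x) :=
    IsPGroup.of_card (n := j) (by rw [Nat.card_zpowers, hj])
  obtain ⟨P₀, hxP₀⟩ := hxp.exists_le_sylow
  have hxP : x ∈ (P₀ : Subgroup _) := hxP₀ (mem_zpowers x)
  set P : Subgroup G := (P₀ : Subgroup _).map (normalizer (E : Set G)).subtype with hPdef
  have hPp : IsPGroup 5 P := P₀.isPGroup'.map (normalizer (E : Set G)).subtype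
  have hPE : P ≤ centralizer (E : Set G) := by
    rintro _ ⟨y, hy, rfl⟩
    obtain ⟨k, hk⟩ := IsPGroup.iff_orderOf.1 P₀.isPGroup' ⟨y, hy⟩
    rw [Subgroup.orderOf_mk] at hk
    refine Subgroup.mem_centralizer_iff.mpr fun e he => ?_
    by_contra hne
    have hE2 : ∀ f ∈ E, f * f = 1 := fun f hf => (hR.mem_iff f (hR.le hf)).mpr hf
    -- the permutation induced on the three involutions has order dividing 6
    let ρ : (normalizer (E : Set G)) →* Equiv.Perm {f : G // f ∈ E ∧ f ≠ 1} :=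
      { toFun := fun n =>
          { toFun := fun f => ⟨n * f * (n : G)⁻¹, (Subgroup.mem_normalizer_iff.mp n.2 _).mp f.2.1,
              fun h => f.2.2 (by simpa using h)⟩
            invFun := fun f => ⟨(n : G)⁻¹ * f * n, by
              have := (Subgroup.mem_normalizer_iff.mp (inv_mem n.2) (f : G)).mp f.2.1
              rwa [inv_inv] at this,
              fun h => f.2.2 (by
                have := congrArg (fun z => (n : G) * z * (n : G)⁻¹) h
                simpa [mul_assoc] using this)⟩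
            left_inv := fun f => Subtype.ext (by simp [mul_assoc])
            right_inv := fun f => Subtype.ext (by simp [mul_assoc]) }
        map_one' := Equiv.ext fun f => Subtype.ext (by simp)
        map_mul' := fun a b => Equiv.ext fun f => Subtype.ext (by simp [mul_assoc]) }
    have hcard : Nat.card {f : G // f ∈ E ∧ f ≠ 1} = 3 := by
      haveI : Fintype G := Fintype.ofFinite G
      have h4 := hR.card_E
      rw [Nat.card_eq_fintype_card, Fintype.card_subtype] at h4 ⊢
      rw [show (Finset.univ.filter fun f : G => f ∈ E ∧ f ≠ 1) =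
        (Finset.univ.filter fun f : G => f ∈ E).erase 1 by ext; simp [and_comm],
        Finset.card_erase_of_mem (by simp [E.one_mem]), h4]
    have h6 : orderOf (ρ y) ∣ 6 := by
      refine (orderOf_dvd_natCard (ρ y)).trans ?_
      rw [Nat.card_perm, hcard]
      rfl
    have h5k : orderOf (ρ y) ∣ 5 ^ k := hk ▸ orderOf_map_dvd ρ y
    have h1 : ρ y = 1 := orderOf_eq_one_iff.1 (Nat.eq_one_of_dvd_coprimes
      (Nat.Coprime.pow_left k (by decide : (5 : ℕ).Coprime 6)) h5k h6)
    have he1 : e ≠ 1 := fun h => hne (by rw [h, one_mul, mul_one])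
    have := congrArg Subtype.val (Equiv.ext_iff.mp h1 ⟨e, he, he1⟩)
    exact hne (mul_inv_eq_iff_eq_mul.mp (show (y : G) * e * (y : G)⁻¹ = e from this)).symm
  have hx1 : (x : G) ≠ 1 := fun h => hχ (by rw [show x = 1 from Subtype.ext h, map_one])
  have hUtop : centralizer (P : Set G) ≠ ⊤ := fun h => hloc.centNe (x : G) hx1 (top_le_iff.1
    (h ▸ Subgroup.centralizer_le (Set.singleton_subset_iff.mpr (⟨x, hxP, rfl⟩ : (x : G) ∈ P))))
  obtain ⟨Q, hQP⟩ := Five.exists_sylow_eq hloc h5 hR P₀ hPE hUtop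
  have hQN : (Q : Subgroup G) ≤ (normalizer (E : Set G)) := hQP ▸ Subgroup.map_subtype_le _
  let φ : ↥(Q : Subgroup G) →* A := χ.comp (Subgroup.inclusion hQN)
  -- fusion keeps `φ`
  have hfus : ∀ (y : ↥(Q : Subgroup G)) (g : G) (h : g * y * g⁻¹ ∈ (Q : Subgroup G)),
      φ ⟨g * y * g⁻¹, h⟩ = φ y := by
    intro y g h
    have hEC : ∀ {z : G}, z ∈ (Q : Subgroup G) → E ≤ centralizer ({z} : Set G) := fun {z} hz e he =>
      Subgroup.mem_centralizer_singleton_iff.mpr
        (Subgroup.mem_centralizer_iff.mp (hPE (hQP.le hz)) e he)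
    obtain ⟨c, hc, hgc⟩ := Five.exists_mem_normalizer hR (hEC y.2) g (fun e he => by
      have := Subgroup.mem_centralizer_singleton_iff.mp (hEC h he)
      refine Subgroup.mem_centralizer_singleton_iff.mpr ?_
      calc g⁻¹ * e * g * (y : G) = g⁻¹ * (e * (g * y * g⁻¹)) * g := by group
        _ = g⁻¹ * ((g * y * g⁻¹) * e) * g := by rw [this]
        _ = (y : G) * (g⁻¹ * e * g) := by group)
    have hcy : c * (y : G) * c⁻¹ = y := by
      rw [Subgroup.mem_centralizer_singleton_iff.mp hc, mul_inv_cancel_right]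
    have he : (⟨g * y * g⁻¹, hQN h⟩ : (normalizer (E : Set G))) = ⟨g * c, hgc⟩ * ⟨y, hQN y.2⟩ * ⟨g * c, hgc⟩⁻¹ :=
      Subtype.ext (by
        simp only [Subgroup.coe_mul, InvMemClass.coe_inv]
        conv_lhs => rw [← hcy]
        group)
    show χ ⟨g * y * g⁻¹, hQN h⟩ = χ ⟨y, hQN y.2⟩
    rw [he, map_mul, map_mul, map_inv, mul_inv_cancel_comm]
  have hxQ : (x : G) ∈ (Q : Subgroup G) := hQP.ge ⟨x, hxP, rfl⟩
  haveI : Fintype (G ⧸ (Q : Subgroup G)) := Fintype.ofFinite _
  have key : φ.transfer (x : G) = φ ⟨x, hxQ⟩ ^ (Q : Subgroup G).index := by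
    rw [MonoidHom.transfer_eq_prod_quotient_orbitRel_zpowers_quot,
      Subgroup.index_eq_sum_minimalPeriod (Q : Subgroup G) (x : G), ← Finset.prod_pow_eq_pow_sum]
    refine Finset.prod_congr rfl fun q _ => ?_
    rw [← map_pow]
    have h := QuotientGroup.out_conj_pow_minimalPeriod_mem (Q : Subgroup G) (x : G) q.out
    have := hfus ((⟨x, hxQ⟩ : ↥(Q : Subgroup G)) ^ Function.minimalPeriod ((x : G) • ·) q.out)
      q.out.out⁻¹ (by simpa using h)
    rw [← this]
    exact congrArg φ (Subtype.ext (by simp))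
  have hcomm : commutator G = ⊤ := by
    haveI := hctx.simple
    refine (Subgroup.Normal.eq_bot_or_eq_top (inferInstance : (commutator G).Normal)).resolve_left
      fun h => hctx.noncomm ⟨⟨fun a b => ?_⟩⟩
    have hab : ⁅a, b⁆ ∈ commutator G := by
      rw [_root_.commutator_def]
      exact Subgroup.commutator_mem_commutator (mem_top a) (mem_top b)
    rw [h, mem_bot] at hab
    exact commutatorElement_eq_one_iff_mul_comm.mp hab
  have hV : φ.transfer (x : G) = 1 :=
    Abelianization.commutator_subset_ker φ.transfer (hcomm ▸ mem_top (x : G))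
  have h1 : φ ⟨x, hxQ⟩ ^ (Q : Subgroup G).index = 1 := key ▸ hV
  have h2 : φ ⟨x, hxQ⟩ ^ 5 ^ j = 1 := by
    rw [← map_pow, show (⟨x, hxQ⟩ : ↥(Q : Subgroup G)) ^ 5 ^ j = 1 from Subtype.ext (by
      rw [SubmonoidClass.coe_pow, ← hj, ← Subgroup.orderOf_coe]
      exact pow_orderOf_eq_one _), map_one]
  have h3 : φ ⟨x, hxQ⟩ = 1 := orderOf_eq_one_iff.1 (Nat.eq_one_of_dvd_coprimes
    (Nat.Coprime.pow_left j ((Nat.Prime.coprime_iff_not_dvd Nat.prime_five).mpr Q.not_dvd_index))
    (orderOf_dvd_of_pow_eq_one h2) (orderOf_dvd_of_pow_eq_one h1))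
  exact hχ h3

end Cfsg.Agent.PiHom23
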