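import Cfsg.Agent.PiHom23.Defs
import Cfsg.Agent.GW66.Wiring
import Cfsg.Agent.GW66.PSLFacts
import Cfsg.Agent.GW66.Embedded
import Cfsg.Agent.GW66.CharSep82
import Mathlib.GroupTheory.Index
import Mathlib.GroupTheory.Perm.Cycle.Type
import Mathlib.FieldTheory.Finite.Basic

/-!
# π-homogeneous groups: a four-group as Sylow 2-subgroup is impossible

`KleinKillStmt`: the Gorenstein–Walter theorem for a four-group gives `G ≅ PSL(2, q)`; there an
element of prime order in π (3, or a prime divisor of `(q - 1) / 2` in characteristic 3) is inverted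
by an involution.
-/

set_option autoImplicit false
set_option linter.style.haveILetI false

namespace Cfsg.Agent.PiHom23

open Subgroup

universe u

namespace KleinAux

variable {G : Type u} [Group G]

/-- An element of prime order `r` that normalises but does not centralise `H` makes `r` divide
`|N(H) : C(H)|`. -/
theorem dvd_relIndex_of_moved [Finite G] {H : Subgroup G} {x : G} {r : ℕ} (hr : r.Prime)
    (hN : x ∈ normalizer (H : Set G)) (hC : x ∉ centralizer (H : Set G)) (hx : x ^ r = 1) :
    r ∣ (centralizer (H : Set G)).relIndex (normalizer (H : Set G)) := by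
  set N := normalizer (H : Set G) with hNdef
  set C := centralizer (H : Set G) with hCdef
  have hnorm : (C.subgroupOf N).Normal := by
    refine ⟨fun c hc g => ?_⟩
    rw [mem_subgroupOf] at hc ⊢
    rw [hCdef, mem_centralizer_iff] at hc ⊢
    intro h hh
    have h1 : (g : G)⁻¹ * h * (g : G) ∈ H := (mem_normalizer_iff''.mp g.2 h).mp hh
    have h2 := hc _ h1
    simp only [Subgroup.coe_mul, InvMemClass.coe_inv]
    calc h * ((g : G) * (c : G) * (g : G)⁻¹)
        = (g : G) * (((g : G)⁻¹ * h * (g : G)) * (c : G)) * (g : G)⁻¹ := by group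
      _ = (g : G) * ((c : G) * ((g : G)⁻¹ * h * (g : G))) * (g : G)⁻¹ := by rw [h2]
      _ = (g : G) * (c : G) * (g : G)⁻¹ * h := by group
  haveI := hnorm
  haveI : Fact r.Prime := ⟨hr⟩
  have hord : orderOf (QuotientGroup.mk' (C.subgroupOf N) ⟨x, hN⟩) = r := by
    refine orderOf_eq_prime ?_ ?_
    · rw [← map_pow, show (⟨x, hN⟩ : ↥N) ^ r = 1 from Subtype.ext (by simp [hx]), map_one]
    · intro h1
      rw [QuotientGroup.mk'_apply, QuotientGroup.eq_one_iff, mem_subgroupOf] at h1
      exact hC h1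
  calc r = orderOf (QuotientGroup.mk' (C.subgroupOf N) ⟨x, hN⟩) := hord.symm
    _ ∣ Nat.card (↥N ⧸ C.subgroupOf N) := orderOf_dvd_natCard _
    _ = C.relIndex N := rfl

theorem klein {S : Sylow 2 G} (hR : RankTwo S (S : Subgroup G)) :
    IsKleinFour ↥(S : Subgroup G) := by
  haveI : Nontrivial ↥(S : Subgroup G) := by
    haveI : Finite ↥(S : Subgroup G) := Nat.finite_of_card_ne_zero (by rw [hR.card_E]; norm_num)
    rw [← Finite.one_lt_card_iff_nontrivial, hR.card_E]; norm_num
  refine ⟨hR.card_E, ?_⟩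
  rw [Monoid.exponent_eq_prime_iff Nat.prime_two]
  intro g hg
  refine orderOf_eq_prime ?_ hg
  rw [pow_two]
  exact Subtype.ext ((hR.mem_iff _ g.2).mpr g.2)

theorem two_involutions [Finite G] {S : Sylow 2 G} (hR : RankTwo S (S : Subgroup G)) :
    ∃ a ∈ (S : Subgroup G), ∃ b ∈ (S : Subgroup G), a ≠ 1 ∧ b ≠ 1 ∧ a ≠ b := by
  have h4 := hR.card_E
  by_contra! hcon
  haveI : Nontrivial ↥(S : Subgroup G) := by
    rw [← Finite.one_lt_card_iff_nontrivial, h4]; norm_num
  obtain ⟨a, ha⟩ := exists_ne (1 : ↥(S : Subgroup G))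
  have hsub : (Set.univ : Set ↥(S : Subgroup G)) ⊆ {1, a} := by
    intro b _
    by_cases hb : b = 1
    · exact Or.inl hb
    · exact Or.inr (Subtype.ext
        (hcon _ a.2 _ b.2 (fun h => ha (Subtype.ext h)) (fun h => hb (Subtype.ext h))).symm)
  have h2 := Set.ncard_le_ncard hsub
  rw [Set.ncard_univ, h4, Set.ncard_pair ha.symm] at h2
  omega

theorem moved [Finite G] {S : Sylow 2 G} (hR : RankTwo S (S : Subgroup G)) :
    ∃ n ∈ normalizer ((S : Subgroup G) : Set G), n ∉ centralizer ((S : Subgroup G) : Set G) := by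
  obtain ⟨a, ha, b, hb, ha1, hb1, hab⟩ := two_involutions hR
  obtain ⟨n, hn, hnab⟩ := hR.trans a ha ha1 b hb hb1
  refine ⟨n, hn, fun hc => hab ?_⟩
  rw [← hnab, ← mem_centralizer_iff.mp hc a ha, mul_inv_cancel_right]

/-- `N(S)` permutes the three involutions of `S` transitively, so `3` divides `|N(S) : C(S)|`. -/
theorem three_dvd [Finite G] {S : Sylow 2 G} (hR : RankTwo S (S : Subgroup G)) :
    3 ∣ (centralizer ((S : Subgroup G) : Set G)).relIndex
      (normalizer ((S : Subgroup G) : Set G)) := by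
  obtain ⟨a, ha, -, -, ha1, -, -⟩ := two_involutions hR
  set N := normalizer ((S : Subgroup G) : Set G) with hN
  letI : MulAction ↥N G := MulAction.compHom G ((MulAut.conj (G := G)).comp N.subtype)
  have hsmul : ∀ (n : ↥N) (x : G), n • x = (n : G) * x * (n : G)⁻¹ := fun _ _ => rfl
  have horb : MulAction.orbit ↥N a = ((S : Subgroup G) : Set G) \ {1} := by
    ext x
    constructor
    · rintro ⟨n, rfl⟩
      simp only [hsmul]
      refine ⟨(mem_normalizer_iff.mp n.2 a).mp ha, fun h => ha1 ?_⟩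
      rw [Set.mem_singleton_iff, conj_eq_one_iff] at h
      exact h
    · rintro ⟨hx, hx1⟩
      obtain ⟨n, hn, hnx⟩ := hR.trans a ha ha1 x hx hx1
      exact ⟨⟨n, hn⟩, (hsmul _ _).trans hnx⟩
  have h3 : (MulAction.stabilizer ↥N a).index = 3 := by
    rw [MulAction.index_stabilizer, horb, Set.ncard_sdiff_singleton_of_mem (one_mem _),
      ← Nat.card_coe_set_eq]
    have := hR.card_E
    change Nat.card ↥(S : Subgroup G) - 1 = 3
    omega
  have hle : (centralizer ((S : Subgroup G) : Set G)).subgroupOf N ≤ MulAction.stabilizer ↥N a := by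
    intro n hn
    rw [mem_subgroupOf, mem_centralizer_iff] at hn
    rw [MulAction.mem_stabilizer_iff, hsmul, ← hn a ha, mul_inv_cancel_right]
  rw [← h3]
  exact index_dvd_of_le hle

variable {F : Type} [Field F]

/-- An element of `SL(2, F)` from its entries. -/
def sl (a b c d : F) (h : a * d - b * c = 1) : Matrix.SpecialLinearGroup (Fin 2) F :=
  ⟨!![a, b; c, d], by rw [Matrix.det_fin_two_of, h]⟩

theorem coe_sl (a b c d : F) (h : a * d - b * c = 1) :
    ((sl a b c d h : Matrix.SpecialLinearGroup (Fin 2) F) : Matrix (Fin 2) (Fin 2) F) =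
      !![a, b; c, d] := rfl

/-- The upper unitriangular matrices. -/
def uni : Multiplicative F →* Matrix.SpecialLinearGroup (Fin 2) F where
  toFun a := sl 1 a.toAdd 0 1 (by ring)
  map_one' := by
    apply Subtype.ext
    rw [coe_sl, Matrix.SpecialLinearGroup.coe_one]
    ext i j
    fin_cases i <;> fin_cases j <;> simp
  map_mul' a b := by
    apply Subtype.ext
    rw [Matrix.SpecialLinearGroup.coe_mul, coe_sl, coe_sl, coe_sl, Matrix.mul_fin_two]
    ext i j
    fin_cases i <;> fin_cases j <;> simp [add_comm]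

theorem coe_uni (a : Multiplicative F) :
    ((uni a : Matrix.SpecialLinearGroup (Fin 2) F) : Matrix (Fin 2) (Fin 2) F) =
      !![1, a.toAdd; 0, 1] := rfl

theorem entries_of_mem_center {A : Matrix.SpecialLinearGroup (Fin 2) F}
    (h : A ∈ center (Matrix.SpecialLinearGroup (Fin 2) F)) :
    A.1 0 1 = 0 ∧ A.1 1 0 = 0 ∧ A.1 0 0 = A.1 1 1 := by
  obtain ⟨r, -, hr⟩ := Matrix.SpecialLinearGroup.mem_center_iff.mp h
  rw [← hr]
  simp

theorem sl_mem_center {r : F} (h : r * r - 0 * 0 = 1) :
    sl r 0 0 r h ∈ center (Matrix.SpecialLinearGroup (Fin 2) F) := by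
  refine Matrix.SpecialLinearGroup.mem_center_iff.mpr ⟨r, ?_, ?_⟩
  · simp only [Fintype.card_fin]; linear_combination h
  · ext i j
    fin_cases i <;> fin_cases j <;> simp [sl]

theorem neg_one_center {A : Matrix.SpecialLinearGroup (Fin 2) F} (h00 : A.1 0 0 = -1)
    (h01 : A.1 0 1 = 0) (h10 : A.1 1 0 = 0) (h11 : A.1 1 1 = -1) :
    A ∈ center (Matrix.SpecialLinearGroup (Fin 2) F) := by
  have hA : A = sl (-1) 0 0 (-1) (by ring) := by
    apply Subtype.ext
    ext i j
    fin_cases i <;> fin_cases j <;> simp [sl, h00, h01, h10, h11]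
  rw [hA]
  exact sl_mem_center _

variable [Fintype F]

theorem sum_eq_neg_one (h3 : (3 : F) ≠ 0) (hodd : Fintype.card F % 2 = 1) :
    ∃ a b : F, a * a + a * b + b * b = -1 := by
  obtain ⟨x, y, hxy⟩ := FiniteField.exists_root_sum_quadratic
    (f := (Polynomial.X : Polynomial F) ^ 2)
    (g := Polynomial.C (3 : F) * Polynomial.X ^ 2 + Polynomial.C 1)
    (Polynomial.degree_X_pow 2)
    (by
      rw [Polynomial.degree_add_eq_left_of_degree_lt] <;> rw [Polynomial.degree_C_mul_X_pow 2 h3]
      · rfl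
      · exact lt_of_le_of_lt Polynomial.degree_C_le (by exact_mod_cast Nat.zero_lt_two)) hodd
  simp only [Polynomial.eval_add, Polynomial.eval_mul, Polynomial.eval_pow, Polynomial.eval_X,
    Polynomial.eval_C] at hxy
  exact ⟨x - y, 2 * y, by linear_combination hxy⟩

theorem three_pow_mod (k : ℕ) : 3 ^ k % 8 = 1 ∨ 3 ^ k % 8 = 3 := by
  induction k with
  | zero => simp
  | succ k ih => rw [pow_succ]; omega

theorem kill_char_ne_three {π : Set ℕ} (hL : Local π G)
    (f : Matrix.SpecialLinearGroup (Fin 2) F →* G)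
    (hker : ∀ A, f A = 1 ↔ A ∈ center (Matrix.SpecialLinearGroup (Fin 2) F))
    (h3π : 3 ∈ π) (h3 : (3 : F) ≠ 0) (hodd : Fintype.card F % 2 = 1) : False := by
  haveI : Fact (Nat.Prime 3) := ⟨Nat.prime_three⟩
  obtain ⟨a, b, hab⟩ := sum_eq_neg_one h3 hodd
  let g : Matrix.SpecialLinearGroup (Fin 2) F := sl 0 (-1) 1 (-1) (by ring)
  let t : Matrix.SpecialLinearGroup (Fin 2) F :=
    sl a b (a + b) (-a) (by linear_combination -hab)
  have hg3 : g ^ 3 = 1 := by
    rw [pow_succ, pow_two]
    apply Subtype.ext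
    simp only [g, Matrix.SpecialLinearGroup.coe_mul, coe_sl, Matrix.mul_fin_two]
    ext i j
    fin_cases i <;> fin_cases j <;> simp
  have htt : t * t ∈ center (Matrix.SpecialLinearGroup (Fin 2) F) := by
    apply neg_one_center <;>
      (simp only [t, Matrix.SpecialLinearGroup.coe_mul, coe_sl, Matrix.mul_fin_two]
       simp
       first | linear_combination hab | ring)
  have htg : t * g = g⁻¹ * t := by
    rw [eq_inv_mul_iff_mul_eq]
    apply Subtype.ext
    simp only [t, g, Matrix.SpecialLinearGroup.coe_mul, coe_sl, Matrix.mul_fin_two]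
    ext i j
    fin_cases i <;> fin_cases j <;> simp <;> ring
  have hord : orderOf (f g) = 3 := by
    refine orderOf_eq_prime (by rw [← map_pow, hg3, map_one]) fun h => ?_
    have := (entries_of_mem_center ((hker g).mp h)).2.1
    simp [g, coe_sl] at this
  refine hL.inverted (f t) (f g) (by rw [← map_mul, hker]; exact htt) (by rw [hord]; decide) ?_ 3
    Nat.prime_three (by rw [hord]) h3π
  rw [mul_inv_eq_iff_eq_mul, ← map_mul, htg, map_mul, map_inv]

theorem kill_char_three [Finite G] {π : Set ℕ} (hC : Ctx π G) (hL : Local π G)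
    (f : Matrix.SpecialLinearGroup (Fin 2) F →* G)
    (hker : ∀ A, f A = 1 ↔ A ∈ center (Matrix.SpecialLinearGroup (Fin 2) F))
    (h3π : 3 ∈ π) {k : ℕ} (hk : Fintype.card F = 3 ^ k) (h5 : 5 ≤ Fintype.card F)
    (hq4 : Fintype.card F % 4 = 3) : False := by
  classical
  obtain ⟨r, hr, hrd⟩ : ∃ r, r.Prime ∧ r ∣ (Fintype.card F - 1) / 2 :=
    Nat.exists_prime_and_dvd (by omega)
  haveI : Fact r.Prime := ⟨hr⟩
  have hr2 : r ≠ 2 := fun h => by subst h; omega
  obtain ⟨μ, hμ⟩ : ∃ μ : Fˣ, orderOf μ = r := exists_prime_orderOf_dvd_card r (by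
    rw [Fintype.card_units]; exact hrd.trans (Nat.div_dvd_of_dvd (by omega)))
  have hμ2 : (μ : F) * (μ : F) ≠ 1 := by
    intro h
    have h1 : μ ^ 2 = 1 := Units.ext (by push_cast; rw [pow_two, h])
    have := orderOf_dvd_of_pow_eq_one h1
    rw [hμ] at this
    exact hr2 ((Nat.prime_dvd_prime_iff_eq hr Nat.prime_two).mp this)
  set H : Subgroup G := (f.comp uni).range with hH
  have hpi : PiSub π H := by
    intro p hp hpd
    have hd : p ∣ 3 ^ k := by
      rw [← hk, ← Nat.card_eq_fintype_card (α := F)]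
      exact hpd.trans (Subgroup.card_range_dvd (f.comp uni))
    rw [(Nat.prime_dvd_prime_iff_eq hp Nat.prime_three).mp (hp.dvd_of_dvd_pow hd)]
    exact h3π
  have hne : H ≠ ⊥ := by
    intro h
    have h1 : f (uni (Multiplicative.ofAdd (1 : F))) = 1 :=
      Subgroup.mem_bot.mp (h ▸ ⟨_, rfl⟩)
    have := (entries_of_mem_center ((hker _).mp h1)).1
    simp [coe_uni] at this
  let d : Matrix.SpecialLinearGroup (Fin 2) F :=
    sl (μ : F) 0 0 ((μ⁻¹ : Fˣ) : F) (by simp)
  let w : Matrix.SpecialLinearGroup (Fin 2) F := sl 0 1 (-1) 0 (by ring)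
  have hdu : ∀ a : Multiplicative F, d * uni a * d⁻¹ =
      uni (Multiplicative.ofAdd ((μ : F) * (μ : F) * a.toAdd)) := by
    intro a
    rw [mul_inv_eq_iff_eq_mul]
    apply Subtype.ext
    simp only [d, Matrix.SpecialLinearGroup.coe_mul, coe_sl, coe_uni, Matrix.mul_fin_two]
    ext i j
    fin_cases i <;> fin_cases j <;> simp
    field_simp
  have hdr : d ^ r = 1 := by
    have hpow : ∀ n : ℕ, (d ^ n).1 = !![(μ : F) ^ n, 0; 0, ((μ⁻¹ : Fˣ) : F) ^ n] := by
      intro n
      induction n with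
      | zero => ext i j; fin_cases i <;> fin_cases j <;> simp
      | succ n ih =>
        rw [pow_succ, Matrix.SpecialLinearGroup.coe_mul, ih]
        simp only [d, coe_sl, Matrix.mul_fin_two]
        ext i j
        fin_cases i <;> fin_cases j <;> simp [pow_succ]
    apply Subtype.ext
    rw [hpow r, ← Units.val_pow_eq_pow_val, ← Units.val_pow_eq_pow_val, inv_pow, ← hμ,
      pow_orderOf_eq_one, inv_one]
    ext i j
    fin_cases i <;> fin_cases j <;> simp
  have hxr : f d ^ r = 1 := by rw [← map_pow, hdr, map_one]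
  have hxN : f d ∈ normalizer (H : Set G) := by
    refine GW66.PSL.mem_normalizer_of_forall ?_
    rintro _ ⟨a, rfl⟩
    refine ⟨Multiplicative.ofAdd ((μ : F) * (μ : F) * a.toAdd), ?_⟩
    simp only [MonoidHom.comp_apply]
    rw [← hdu, map_mul, map_mul, map_inv]
  have hxC : f d ∉ centralizer (H : Set G) := by
    intro hc
    have h1 := mem_centralizer_iff.mp hc (f (uni (Multiplicative.ofAdd (1 : F)))) ⟨_, rfl⟩
    have h2 : f (uni (Multiplicative.ofAdd ((μ : F) * (μ : F) - 1))) = 1 := by
      have h3 : uni (Multiplicative.ofAdd ((μ : F) * (μ : F) - 1)) =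
          d * uni (Multiplicative.ofAdd (1 : F)) * d⁻¹ * (uni (Multiplicative.ofAdd (1 : F)))⁻¹ := by
        rw [hdu, ← map_inv, ← map_mul]
        congr 1
        simp [sub_eq_add_neg]
      rw [h3, map_mul, map_mul, map_mul, map_inv, map_inv, ← h1]
      group
    have := (entries_of_mem_center ((hker _).mp h2)).1
    rw [coe_uni] at this
    simp [sub_eq_zero] at this
    exact hμ2 this
  have hrπ : r ∈ π := hC.homog H hne hpi r hr (dvd_relIndex_of_moved hr hxN hxC hxr)
  have hx1 : f d ≠ 1 := fun h => hxC (by rw [h]; exact one_mem _)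
  have hord : orderOf (f d) = r := orderOf_eq_prime hxr hx1
  refine hL.inverted (f w) (f d) ?_ (by rw [hord]; exact hr.odd_of_ne_two hr2) ?_ r hr
    (by rw [hord]) hrπ
  · rw [← map_mul, hker]
    apply neg_one_center <;>
      (simp only [w, Matrix.SpecialLinearGroup.coe_mul, coe_sl, Matrix.mul_fin_two]
       simp)
  · rw [mul_inv_eq_iff_eq_mul, ← map_mul, ← map_inv, ← map_mul]
    congr 1
    rw [eq_inv_mul_iff_mul_eq]
    apply Subtype.ext
    simp only [d, w, Matrix.SpecialLinearGroup.coe_mul, coe_sl, Matrix.mul_fin_two]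
    ext i j
    fin_cases i <;> fin_cases j <;> simp

end KleinAux

open KleinAux in
theorem kleinKill : KleinKillStmt.{u} := by
  intro π G _ _ hC hL S hR
  classical
  haveI := hC.simple
  have hK : IsKleinFour ↥(S : Subgroup G) := klein hR
  have hidx : Odd (S : Subgroup G).index :=
    Nat.not_even_iff_odd.mp fun h => S.not_dvd_index (even_iff_two_dvd.mp h)
  have h3π : 3 ∈ π := by
    refine hC.homog (S : Subgroup G) ?_ ?_ 3 Nat.prime_three (three_dvd hR)
    · intro h
      have := hR.card_E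
      rw [h, Subgroup.card_bot] at this
      omega
    · intro p hp hpd
      rw [hR.card_E, show (4 : ℕ) = 2 ^ 2 from rfl] at hpd
      rw [(Nat.prime_dvd_prime_iff_eq hp Nat.prime_two).mp (hp.dvd_of_dvd_pow hpd)]
      exact hC.two_mem
  obtain ⟨m, hmN, hmC⟩ := moved hR
  have hfused : GW66.Fused (⊤ : Subgroup G) (S : Subgroup G) := ⟨m, mem_top m, hmN, hmC⟩
  have htop : GW66.IsKleinTop (G ⧸ Cfsg.oddCore G) :=
    GW66.klein_of_facts GW66.pslFacts GW66.seKill GW66.sepStmt G _ hK hidx hfused
  have hcore : Cfsg.oddCore G = ⊥ := by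
    haveI : (Cfsg.oddCore G).Normal := inferInstance
    refine (IsSimpleGroup.eq_bot_or_eq_top_of_normal (Cfsg.oddCore G) inferInstance).resolve_right
      fun h => ?_
    obtain ⟨N, -, hodd, F, _, _, hF, ⟨e⟩⟩ := htop
    haveI : Subsingleton (G ⧸ Cfsg.oddCore G) := QuotientGroup.subsingleton_iff.mpr h
    obtain ⟨j, -, hc, -, -⟩ := GW66.PSL.card_psl hF
    have h1 : Nat.card ↥N = 1 := Nat.card_unique
    have h2 := Nat.card_congr e.toEquiv
    have h4 : 4 ∣ Nat.card (Matrix.ProjectiveSpecialLinearGroup (Fin 2) F) :=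
      hc ▸ dvd_mul_of_dvd_left (dvd_mul_right 4 _) j
    rw [← h2, h1] at h4
    norm_num at h4
  obtain ⟨N, hN, hNodd, F, _, _, hF, ⟨e⟩⟩ :=
    htop.of_mulEquiv ((QuotientGroup.quotientMulEquivOfEq hcore).trans QuotientGroup.quotientBot)
  have hNtop : N = ⊤ := by
    refine (IsSimpleGroup.eq_bot_or_eq_top_of_normal N hN).resolve_left fun h => ?_
    rw [h, Subgroup.index_bot, Nat.odd_iff] at hNodd
    have := hL.even
    omega
  subst hNtop
  let E : Matrix.ProjectiveSpecialLinearGroup (Fin 2) F ≃* G :=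
    (Subgroup.topEquiv.symm.trans e).symm
  let f : Matrix.SpecialLinearGroup (Fin 2) F →* G :=
    E.toMonoidHom.comp (QuotientGroup.mk' (center (Matrix.SpecialLinearGroup (Fin 2) F)))
  have hker : ∀ A, f A = 1 ↔ A ∈ center (Matrix.SpecialLinearGroup (Fin 2) F) := by
    intro A
    simp [f, QuotientGroup.eq_one_iff]
  have hodd2 : Fintype.card F % 2 = 1 := (GW66.PSL.odd_card hF).1
  by_cases h3 : (3 : F) = 0
  · haveI : CharP F 3 := by
      haveI : Fact (Nat.Prime 3) := ⟨Nat.prime_three⟩
      exact (CharP.charP_iff_prime_eq_zero Nat.prime_three).mpr (by exact_mod_cast h3)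
    obtain ⟨⟨k, hk0⟩, -, hk⟩ := FiniteField.card F 3
    change Fintype.card F = 3 ^ k at hk
    have hmod := three_pow_mod k
    have hq3 : Fintype.card F ≠ 3 := by
      intro hq
      obtain ⟨j, -, hc, hj, -⟩ := GW66.PSL.card_psl hF
      have hh : GW66.PSL.half (Fintype.card F) = 1 := by rw [hq]; rfl
      rw [hh] at hc hj
      rw [hj (by omega), hq, Nat.card_congr E.toEquiv] at hc
      set N := normalizer ((S : Subgroup G) : Set G) with hNS
      have hle : (S : Subgroup G) ≤ N := le_normalizer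
      have hd1 := Subgroup.card_dvd_of_le hle
      have hd2 := Subgroup.card_subgroup_dvd_card N
      rw [hR.card_E] at hd1
      rw [hc] at hd2
      obtain ⟨c, hc'⟩ := hd1
      rw [hc'] at hd2
      have hc3 : c ∣ 3 := Nat.dvd_of_mul_dvd_mul_left (by norm_num : 0 < 4) hd2
      rcases (Nat.dvd_prime Nat.prime_three).mp hc3 with rfl | rfl
      · have hSN : (S : Subgroup G) = N :=
          eq_of_le_of_card_ge hle (by rw [hc', hR.card_E])
        refine hmC (mem_centralizer_iff.mpr fun s hs => ?_)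
        exact (hR.central s hs m (hSN ▸ hmN))
      · have hNT : N = ⊤ := eq_top_of_card_eq N (by rw [hc', hc])
        exact hL.notNormal S (Subgroup.normalizer_eq_top_iff.mp hNT)
    exact kill_char_three hC hL f hker h3π hk (by omega) (by omega)
  · exact kill_char_ne_three hL f hker h3π h3 hodd2

end Cfsg.Agent.PiHom23
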