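import Cfsg.Agent.PiHom23.Defs
import Cfsg.Agent.PF14.Compose
import Cfsg.Agent.S0215
import Mathlib.GroupTheory.SchurZassenhaus
import Mathlib.GroupTheory.Nilpotent

/-!
# Local facts about a minimal counterexample
-/

set_option autoImplicit false
set_option linter.style.haveILetI false
set_option linter.unusedSectionVars false

namespace Cfsg.Agent.PiHom23

open Subgroup

universe u

namespace LocalAux

variable {G : Type u} [Group G] [Finite G] {π : Set ℕ}

omit [Finite G] in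
theorem mem_piSubgroup_iff {v : G} {T : Subgroup G} {x : G} :
    x ∈ T.map (MulAut.conj v).toMonoidHom ↔ v⁻¹ * x * v ∈ T := by
  constructor
  · rintro ⟨y, hy, rfl⟩
    simpa [mul_assoc] using hy
  · intro h
    exact ⟨_, h, by simp [mul_assoc]⟩

theorem odd_of_pi' (h2 : 2 ∈ π) {K : Subgroup G}
    (hK : ∀ p : ℕ, p.Prime → p ∣ Nat.card ↥K → p ∉ π) : Odd (Nat.card ↥K) :=
  Nat.not_even_iff_odd.mp fun he => hK 2 Nat.prime_two (even_iff_two_dvd.mp he) h2

theorem not_solvable (hc : Ctx π G) : ¬ Group.IsSolvable G := fun h => by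
  haveI := hc.simple
  exact hc.noncomm ⟨⟨IsSimpleGroup.comm_iff_isSolvable.2 h⟩⟩

theorem two_dvd (hc : Ctx π G) : 2 ∣ Nat.card G := by
  by_contra h
  exact not_solvable hc (PF14.feitThompson G (Nat.odd_iff.2 (by omega)))

theorem centralizer_ne_top (hc : Ctx π G) {x : G} (hx : x ≠ 1) :
    centralizer ({x} : Set G) ≠ ⊤ := by
  intro h
  haveI := hc.simple
  have hxc : x ∈ center G := by
    rw [mem_center_iff]
    intro g
    exact mem_centralizer_singleton_iff.mp (h ▸ mem_top g : g ∈ centralizer ({x} : Set G))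
  rcases (inferInstance : (center G).Normal).eq_bot_or_eq_top with hb | hb
  · rw [hb, mem_bot] at hxc
    exact hx hxc
  · exact hc.noncomm ⟨⟨fun a b => mem_center_iff.mp (hb ▸ mem_top b : b ∈ center G) a⟩⟩

theorem normalizer_ne_top (hc : Ctx π G) {H : Subgroup G} (h1 : H ≠ ⊥) (h2 : H ≠ ⊤) :
    normalizer (H : Set G) ≠ ⊤ := by
  intro h
  haveI := hc.simple
  have hN : H.Normal := normalizer_eq_top_iff.mp h
  rcases hN.eq_bot_or_eq_top with h' | h'
  · exact h1 h'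
  · exact h2 h'

/-- A π-subgroup has a largest 2-subgroup, of odd index. -/
theorem twoPart (hc : Ctx π G) {H : Subgroup G} (hH : PiSub π H) :
    ∃ P : Subgroup G, SylowIn 2 P H ∧ H ≤ normalizer (P : Set G) ∧
      ∀ Q : Subgroup G, Q ≤ H → IsPGroup 2 Q → Q ≤ P := by
  haveI : Fact (Nat.Prime 2) := ⟨Nat.prime_two⟩
  obtain ⟨P⟩ := (inferInstance : Nonempty (Sylow 2 ↥H))
  haveI hP := hc.twoClosed H hH P
  refine ⟨(P : Subgroup ↥H).map H.subtype,
    ⟨map_subtype_le _, P.isPGroup'.map _, ?_⟩, ?_, ?_⟩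
  · rw [relIndex, subgroupOf, comap_map_eq_self_of_injective H.subtype_injective]
    exact P.not_dvd_index
  · intro h hh
    rw [mem_normalizer_iff]
    intro x
    constructor
    · rintro ⟨y, hy, rfl⟩
      exact ⟨⟨h, hh⟩ * y * ⟨h, hh⟩⁻¹, hP.conj_mem y hy _, by simp⟩
    · rintro ⟨y, hy, he⟩
      refine ⟨⟨h, hh⟩⁻¹ * y * ⟨h, hh⟩, hP.conj_mem' y hy _, ?_⟩
      simp [show (y : G) = h * x * h⁻¹ from he, mul_assoc]
  · intro Q hQH hQ x hx
    obtain ⟨R, hR⟩ := (hQ.comap_subtype (K := H)).exists_le_sylow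
    have hRP : R = P := by
      obtain ⟨g, rfl⟩ := MulAction.exists_smul_eq ↥H P R
      exact Sylow.smul_eq_iff_mem_normalizer.mpr
        (show g ∈ normalizer ((P : Subgroup ↥H) : Set ↥H) by
          rw [normalizer_eq_top_iff.mpr hP]; exact mem_top g)
    exact ⟨⟨x, hQH hx⟩, hRP ▸ hR (mem_subgroupOf.mpr hx), rfl⟩

/-- A proper subgroup is the product of its normal π'-part and a π-subgroup. -/
theorem split (hc : Ctx π G) {U : Subgroup G} (hU : U ≠ ⊤) :
    ∃ K H : Subgroup G, K ≤ U ∧ H ≤ U ∧ U ≤ normalizer (K : Set G) ∧ Odd (Nat.card ↥K) ∧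
      PiSub π H ∧ H.relIndex U = Nat.card ↥K ∧ ∀ u ∈ U, ∃ k ∈ K, ∃ h ∈ H, u = k * h := by
  obtain ⟨K, hKU, hnorm, hK', hKi⟩ := hc.proper U hU
  haveI hN : (K.subgroupOf U).Normal := normal_subgroupOf_of_le_normalizer hnorm
  have hcard : Nat.card (K.subgroupOf U) = Nat.card ↥K :=
    Nat.card_congr (subgroupOfEquivOfLe hKU).toEquiv
  have hco : (Nat.card (K.subgroupOf U)).Coprime (K.subgroupOf U).index := by
    rw [hcard]
    exact Nat.coprime_of_dvd fun p hp h1 h2 => hK' p hp h1 (hKi p hp h2)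
  obtain ⟨H, hH⟩ := exists_right_complement'_of_coprime hco
  refine ⟨K, H.map U.subtype, hKU, map_subtype_le _, hnorm, odd_of_pi' hc.two_mem hK', ?_, ?_, ?_⟩
  · intro p hp hd
    refine hKi p hp ?_
    rw [relIndex, hH.symm.index_eq_card]
    rwa [← Nat.card_congr (H.equivMapOfInjective U.subtype U.subtype_injective).toEquiv] at hd
  · rw [relIndex, subgroupOf, comap_map_eq_self_of_injective U.subtype_injective,
      hH.index_eq_card, hcard]
  · intro u hu
    obtain ⟨⟨k, h⟩, he⟩ := hH.2 ⟨u, hu⟩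
    exact ⟨((k : ↥U) : G), k.2, ((h : ↥U) : G), mem_map_of_mem _ h.2,
      (congrArg Subtype.val he).symm⟩

theorem solvable_of_piSub (hc : Ctx π G) {H : Subgroup G} (hH : PiSub π H) :
    Group.IsSolvable ↥H := by
  obtain ⟨P, ⟨hPH, hP2, hPi⟩, hn, -⟩ := twoPart hc hH
  haveI : Fact (Nat.Prime 2) := ⟨Nat.prime_two⟩
  haveI : (P.subgroupOf H).Normal := normal_subgroupOf_of_le_normalizer hn
  haveI : Group.IsNilpotent (P.subgroupOf H) := (hP2.comap_subtype (K := H)).isNilpotent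
  haveI : Group.IsSolvable (↥H ⧸ P.subgroupOf H) := PF14.feitThompson _ (by
    rw [← index_eq_card, Nat.odd_iff]
    have : ¬ 2 ∣ (P.subgroupOf H).index := hPi
    omega)
  exact Group.isSolvable_of_ker_le_range (P.subgroupOf H).subtype
    (QuotientGroup.mk' (P.subgroupOf H)) (by rw [QuotientGroup.ker_mk', range_subtype])

theorem solv (hc : Ctx π G) {U : Subgroup G} (hU : U ≠ ⊤) : Group.IsSolvable ↥U := by
  obtain ⟨K, H, hKU, hHU, hnorm, hodd, hH, -, hdec⟩ := split hc hU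
  haveI : (K.subgroupOf U).Normal := normal_subgroupOf_of_le_normalizer hnorm
  haveI : Group.IsSolvable (K.subgroupOf U) := PF14.feitThompson _
    (by rwa [Nat.card_congr (subgroupOfEquivOfLe hKU).toEquiv])
  haveI := solvable_of_piSub hc hH
  haveI : Group.IsSolvable (↥U ⧸ K.subgroupOf U) := by
    refine Group.isSolvable_of_surjective
      (f := (QuotientGroup.mk' (K.subgroupOf U)).comp (inclusion hHU)) ?_
    intro q
    obtain ⟨⟨u, hu⟩, rfl⟩ := QuotientGroup.mk'_surjective _ q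
    obtain ⟨k, hk, h, hh, rfl⟩ := hdec u hu
    refine ⟨⟨h, hh⟩, ?_⟩
    simp only [MonoidHom.comp_apply, QuotientGroup.mk'_apply]
    rw [QuotientGroup.eq, mem_subgroupOf]
    simpa [mul_assoc] using (mem_normalizer_iff''.mp (hnorm (hHU hh)) k).mp hk
  exact Group.isSolvable_of_ker_le_range (K.subgroupOf U).subtype
    (QuotientGroup.mk' (K.subgroupOf U)) (by rw [QuotientGroup.ker_mk', range_subtype])

/-- Sylow conjugacy inside `U`. -/
theorem sylow_conj {U T X : Subgroup G} (hT : SylowIn 2 T U) (hXU : X ≤ U) (hX : IsPGroup 2 X) :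
    ∃ v ∈ U, ∀ x ∈ X, v⁻¹ * x * v ∈ T := by
  haveI : Fact (Nat.Prime 2) := ⟨Nat.prime_two⟩
  obtain ⟨hTU, hT2, hTi⟩ := hT
  obtain ⟨Q, hQ⟩ := (hX.comap_subtype (K := U)).exists_le_sylow
  obtain ⟨v, rfl⟩ := MulAction.exists_smul_eq ↥U ((hT2.comap_subtype (K := U)).toSylow hTi) Q
  refine ⟨v, v.2, fun x hx => ?_⟩
  have := hQ (mem_subgroupOf.mpr (show ((⟨x, hXU hx⟩ : ↥U) : G) ∈ X from hx))
  have h' : (v⁻¹ * ⟨x, hXU hx⟩ * v : ↥U) ∈ T.subgroupOf U := by
    simpa [MulAut.smul_def, mul_assoc] using mem_pointwise_smul_iff_inv_smul_mem.mp this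
  exact h'

theorem card_le_sylowIn {U T X : Subgroup G} (hT : SylowIn 2 T U) (hXU : X ≤ U)
    (hX : IsPGroup 2 X) : Nat.card ↥X ≤ Nat.card ↥T := by
  obtain ⟨v, -, hv⟩ := sylow_conj hT hXU hX
  refine le_of_le_of_eq (Subgroup.card_le_of_le fun x hx => mem_piSubgroup_iff.mpr (hv x hx))
    (Nat.card_congr (T.equivMapOfInjective _ (MulAut.conj v).injective).toEquiv.symm)

theorem exists_sylowIn {U T : Subgroup G} (hTU : T ≤ U) (hT : IsPGroup 2 T) :
    ∃ R : Subgroup G, SylowIn 2 R U ∧ T ≤ R := by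
  haveI : Fact (Nat.Prime 2) := ⟨Nat.prime_two⟩
  obtain ⟨Q, hQ⟩ := (hT.comap_subtype (K := U)).exists_le_sylow
  refine ⟨(Q : Subgroup ↥U).map U.subtype, ⟨map_subtype_le _, Q.isPGroup'.map _, ?_⟩,
    fun x hx => ⟨⟨x, hTU hx⟩, hQ (mem_subgroupOf.mpr hx), rfl⟩⟩
  rw [relIndex, subgroupOf, comap_map_eq_self_of_injective U.subtype_injective]
  exact Q.not_dvd_index

theorem layer (hc : Ctx π G) {U : Subgroup G} (hU : U ≠ ⊤) {T : Subgroup G}
    (hT : SylowIn 2 T U) :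
    ∃ K : Subgroup G, K ≤ U ∧ U ≤ normalizer (K : Set G) ∧ Odd (Nat.card ↥K) ∧
      ∀ u ∈ U, ∃ k ∈ K, ∃ n ∈ U, n ∈ normalizer (T : Set G) ∧ u = k * n := by
  obtain ⟨K, H, hKU, hHU, hnorm, hodd, hH, hidx, hdec⟩ := split hc hU
  obtain ⟨P, ⟨hPH, hP2, hPi⟩, hPn, -⟩ := twoPart hc hH
  have hP : SylowIn 2 P U := by
    refine ⟨hPH.trans hHU, hP2, ?_⟩
    rw [← relIndex_mul_relIndex P H U hPH hHU, hidx, Nat.prime_two.dvd_mul]
    rintro (h | h)
    · exact hPi h
    · exact Nat.not_even_iff_odd.mpr hodd (even_iff_two_dvd.mpr h)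
  obtain ⟨v, hv, hvT⟩ := sylow_conj hP hT.1 hT.2.1
  obtain ⟨k₀, hk₀, h₀, hh₀, rfl⟩ := hdec v hv
  have hTk : T = P.map (MulAut.conj k₀).toMonoidHom := by
    refine SetLike.coe_injective (Set.eq_of_subset_of_ncard_le (fun x hx => ?_) ?_ (Set.toFinite _))
    · refine mem_piSubgroup_iff.mpr ?_
      rw [mem_normalizer_iff''.mp (hPn hh₀)]
      simpa [mul_assoc] using hvT x hx
    · rw [← Nat.card_coe_set_eq, ← Nat.card_coe_set_eq]
      exact le_of_eq_of_le
        (Nat.card_congr (P.equivMapOfInjective _ (MulAut.conj k₀).injective).toEquiv.symm)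
        (card_le_sylowIn hT hP.1 hP.2.1)
  refine ⟨K, hKU, hnorm, hodd, fun u hu => ?_⟩
  obtain ⟨k, hk, h, hh, rfl⟩ := hdec u hu
  refine ⟨k * h * (k₀ * h * k₀⁻¹)⁻¹, ?_, k₀ * h * k₀⁻¹,
    mul_mem (mul_mem (hKU hk₀) (hHU hh)) (inv_mem (hKU hk₀)), ?_, by group⟩
  · have h1 : h * k₀ * h⁻¹ ∈ K := (mem_normalizer_iff.mp (hnorm (hHU hh)) k₀).mp hk₀
    have h2 : k * h * (k₀ * h * k₀⁻¹)⁻¹ = k * (h * k₀ * h⁻¹) * k₀⁻¹ := by group
    rw [h2]
    exact mul_mem (mul_mem hk h1) (inv_mem hk₀)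
  · rw [mem_normalizer_iff]
    intro x
    rw [hTk, mem_piSubgroup_iff, mem_piSubgroup_iff,
      mem_normalizer_iff.mp (hPn hh) (k₀⁻¹ * x * k₀)]
    simp [mul_assoc]

/-- Any 2-subgroup of `U` is moved into `T` by an element of the odd normal part. -/
theorem layer_conj {U T K X : Subgroup G} (hT : SylowIn 2 T U)
    (hdec : ∀ u ∈ U, ∃ k ∈ K, ∃ n ∈ U, n ∈ normalizer (T : Set G) ∧ u = k * n)
    (hXU : X ≤ U) (hX : IsPGroup 2 X) : ∃ c ∈ K, ∀ x ∈ X, c * x * c⁻¹ ∈ T := by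
  obtain ⟨v, hv, hvX⟩ := sylow_conj hT hXU hX
  obtain ⟨k, hk, n, -, hn, rfl⟩ := hdec v hv
  refine ⟨k⁻¹, inv_mem hk, fun x hx => ?_⟩
  rw [mem_normalizer_iff''.mp hn]
  simpa [mul_assoc] using hvX x hx

theorem inverted (hc : Ctx π G) (t x : G) (ht : t * t = 1) (hx : Odd (orderOf x))
    (htx : t * x * t⁻¹ = x⁻¹) (p : ℕ) (hp : p.Prime) (hd : p ∣ orderOf x) : p ∉ π := by
  intro hpπ
  haveI : Fact (Nat.Prime 2) := ⟨Nat.prime_two⟩
  obtain ⟨m, hm⟩ := hd
  have hp2 : p ≠ 2 := by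
    rintro rfl
    exact Nat.not_even_iff_odd.mpr hx (hm ▸ even_two_mul m)
  have hm0 : m ≠ 0 := by
    rintro rfl
    exact (orderOf_pos x).ne' (by simpa using hm)
  set y := x ^ m
  have hy : orderOf y = p := by
    rw [orderOf_pow_of_dvd hm0 (by rw [hm]; exact Dvd.intro_left p rfl), hm,
      Nat.mul_div_cancel _ (Nat.pos_of_ne_zero hm0)]
  have hty : t * y * t⁻¹ = y⁻¹ := by rw [← conj_pow, htx, inv_pow]
  have htinv : t⁻¹ = t := inv_eq_of_mul_eq_one_right ht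
  set Y := zpowers y
  set B := zpowers t
  have hB : B ≤ normalizer (Y : Set G) := by
    rw [zpowers_le, mem_normalizer_iff_map_conj_eq, MonoidHom.map_zpowers]
    show zpowers (t * y * t⁻¹) = zpowers y
    rw [hty, zpowers_inv]
  have hmem : ∀ h ∈ B ⊔ Y, ∃ a ∈ B, ∃ b ∈ Y, h = a * b := fun h hh => by
    rw [← SetLike.mem_coe, coe_mul_of_left_le_normalizer_right B Y hB] at hh
    obtain ⟨a, ha, b, hb, rfl⟩ := hh
    exact ⟨a, ha, b, hb, rfl⟩
  have hπ : PiSub π (B ⊔ Y) := by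
    intro q hq hqd
    haveI : Fact q.Prime := ⟨hq⟩
    obtain ⟨⟨g, hg⟩, hgo⟩ := exists_prime_orderOf_dvd_card' q hqd
    rw [← orderOf_coe] at hgo
    change orderOf g = q at hgo
    obtain ⟨a, ha, b, hb, rfl⟩ := hmem g hg
    obtain ⟨i, rfl⟩ := mem_zpowers_iff.mp ha
    obtain ⟨j, rfl⟩ := mem_zpowers_iff.mp hb
    have ht2 : t ^ (2 : ℤ) = 1 := by rw [zpow_two, ht]
    rcases Int.even_or_odd i with ⟨r, rfl⟩ | ⟨r, rfl⟩
    · rw [← two_mul, zpow_mul, ht2, one_zpow, one_mul] at hgo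
      have : q ∣ p := hgo ▸ hy ▸ orderOf_dvd_of_mem_zpowers (zpow_mem_zpowers y j)
      rwa [(Nat.prime_dvd_prime_iff_eq hq hp).mp this]
    · rw [zpow_add, zpow_mul, ht2, one_zpow, one_mul, zpow_one] at hgo
      have h1 : t * y ^ j * (t * y ^ j) = 1 := by
        have : t * y ^ j * t⁻¹ = (y ^ j)⁻¹ := by rw [← conj_zpow, hty, inv_zpow]
        rw [htinv] at this
        rw [← mul_assoc, this, inv_mul_cancel]
      have : q ∣ 2 := hgo ▸ orderOf_dvd_of_pow_eq_one (by rw [pow_two, h1])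
      rw [(Nat.prime_dvd_prime_iff_eq hq Nat.prime_two).mp this]
      exact hc.two_mem
  obtain ⟨P, ⟨hPH, hP2, -⟩, hPn, hmax⟩ := twoPart hc hπ
  have htP : t ∈ P := by
    refine hmax B le_sup_left ?_ (mem_zpowers t)
    intro g
    refine ⟨1, Subtype.ext ?_⟩
    obtain ⟨i, hi⟩ := mem_zpowers_iff.mp g.2
    rw [SubmonoidClass.coe_pow, ← hi, pow_one, OneMemClass.coe_one, pow_two, ← zpow_add,
      ← two_mul, zpow_mul, zpow_two, ht, one_zpow]
  have hyP : y * t * y⁻¹ ∈ P :=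
    (mem_normalizer_iff.mp (hPn (le_sup_right (a := B) (mem_zpowers y))) t).mp htP
  have hy2 : y * y ∈ P := by
    have h1 : y * t * y⁻¹ * t = y * y := by
      have h2 : t * y⁻¹ * t⁻¹ = y := by rw [← conj_inv, hty, inv_inv]
      rw [htinv] at h2
      rw [mul_assoc y, mul_assoc y, h2]
    rw [← h1]
    exact mul_mem hyP htP
  obtain ⟨k, hk⟩ := hP2 ⟨y * y, hy2⟩
  have h3 : p ∣ 2 * 2 ^ k := by
    rw [← hy]
    refine orderOf_dvd_of_pow_eq_one ?_
    rw [pow_mul, pow_two]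
    exact congrArg Subtype.val hk
  rcases (Nat.Prime.dvd_mul hp).mp h3 with h | h
  · exact hp2 ((Nat.prime_dvd_prime_iff_eq hp Nat.prime_two).mp h)
  · exact hp2 ((Nat.prime_dvd_prime_iff_eq hp Nat.prime_two).mp (hp.dvd_of_dvd_pow h))

/-- Normalisers grow inside a 2-group. -/
theorem exists_normalizing {T S : Subgroup G} (hS : IsPGroup 2 S) (hTS : T < S) :
    Nat.card ↥T < Nat.card ↥(S ⊓ normalizer (T : Set G)) := by
  haveI : Fact (Nat.Prime 2) := ⟨Nat.prime_two⟩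
  haveI : Group.IsNilpotent ↥S := hS.isNilpotent
  have hlt : T.subgroupOf S < ⊤ := lt_top_iff_ne_top.mpr fun h =>
    hTS.not_ge (subgroupOf_eq_top.mp h)
  obtain ⟨s, hs, hsT⟩ := SetLike.exists_of_lt (Group.normalizerCondition_of_isNilpotent _ hlt)
  have hle : T ≤ S ⊓ normalizer (T : Set G) := le_inf hTS.le le_normalizer
  have hs' : (s : G) ∈ S ⊓ normalizer (T : Set G) := by
    refine ⟨s.2, mem_normalizer_iff.mpr fun x => ⟨fun hx => ?_, fun hx => ?_⟩⟩
    · simpa [mem_subgroupOf] using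
        (mem_normalizer_iff.mp hs ⟨x, hTS.le hx⟩).mp (mem_subgroupOf.mpr hx)
    · have hxS : x ∈ S := by
        have := mul_mem (mul_mem (inv_mem s.2) (hTS.le hx)) s.2
        simpa [mul_assoc] using this
      have := (mem_normalizer_iff.mp hs ⟨x, hxS⟩).mpr
        (mem_subgroupOf.mpr (by simpa using hx))
      simpa [mem_subgroupOf] using this
  rw [← SetLike.coe_sort_coe, ← SetLike.coe_sort_coe, Nat.card_coe_set_eq, Nat.card_coe_set_eq]
  exact Set.ncard_lt_ncard (Set.ssubset_iff_of_subset hle |>.mpr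
    ⟨(s : G), hs', fun h => hsT (mem_subgroupOf.mpr h)⟩) (Set.toFinite _)

theorem fusion (hc : Ctx π G) (S : Sylow 2 G) :
    ∀ (T : Subgroup G) (g : G), T ≤ (S : Subgroup G) →
      (∀ x ∈ T, g * x * g⁻¹ ∈ (S : Subgroup G)) →
      ∃ n ∈ normalizer ((S : Subgroup G) : Set G), ∀ x ∈ T, n * x * n⁻¹ = g * x * g⁻¹ := by
  haveI : Fact (Nat.Prime 2) := ⟨Nat.prime_two⟩
  intro T
  generalize hk : Nat.card ↥(S : Subgroup G) - Nat.card ↥T = k
  induction k using Nat.strong_induction_on generalizing T with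
  | _ k ih =>
  intro g hTS hg
  by_cases hTe : T = (S : Subgroup G)
  · subst hTe
    refine ⟨g, ?_, fun x _ => rfl⟩
    rw [mem_normalizer_iff_map_conj_eq]
    refine SetLike.coe_injective (Set.eq_of_subset_of_ncard_le ?_ ?_ (Set.toFinite _))
    · rintro _ ⟨x, hx, rfl⟩
      exact hg x hx
    · rw [coe_map]
      exact (Set.ncard_image_of_injective _ (MulAut.conj g).injective).ge
  by_cases hT1 : T = ⊥
  · refine ⟨1, one_mem _, fun x hx => ?_⟩
    rw [hT1, mem_bot] at hx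
    simp [hx]
  have hlt : T < (S : Subgroup G) := lt_of_le_of_ne hTS hTe
  have hTne : T ≠ ⊤ := fun h => hTe (le_antisymm hTS (h ▸ le_top))
  set U := normalizer (T : Set G) with hUdef
  have hU : U ≠ ⊤ := normalizer_ne_top hc hT1 hTne
  set T' := T.map (MulAut.conj g).toMonoidHom with hT'
  have hT'S : T' ≤ (S : Subgroup G) := by
    rintro _ ⟨x, hx, rfl⟩
    exact hg x hx
  have hcardT' : Nat.card ↥T' = Nat.card ↥T :=
    (Nat.card_congr (T.equivMapOfInjective _ (MulAut.conj g).injective).toEquiv).symm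
  have hlt' : T' < (S : Subgroup G) := lt_of_le_of_ne hT'S fun h => by
    refine hTe (SetLike.coe_injective (Set.eq_of_subset_of_ncard_le hTS ?_ (Set.toFinite _)))
    rw [← Nat.card_coe_set_eq, ← Nat.card_coe_set_eq]
    exact le_of_eq (by rw [← h]; exact hcardT')
  set T₁ := (S : Subgroup G) ⊓ U
  set T₁' := (S : Subgroup G) ⊓ normalizer (T' : Set G)
  have hT₁c : Nat.card ↥T < Nat.card ↥T₁ := exists_normalizing S.isPGroup' hlt
  have hT₁'c : Nat.card ↥T < Nat.card ↥T₁' := hcardT' ▸ exists_normalizing S.isPGroup' hlt'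
  have hcS : ∀ A : Subgroup G, A ≤ (S : Subgroup G) → Nat.card ↥A ≤ Nat.card ↥(S : Subgroup G) :=
    fun A hA => Subgroup.card_le_of_le hA
  obtain ⟨R, hR, hT₁R⟩ := exists_sylowIn (U := U) (T := T₁) inf_le_right
    (S.isPGroup'.to_le inf_le_left)
  obtain ⟨K, hKU, hKn, hKodd, hdec⟩ := layer hc hU hR
  set X := T₁'.map (MulAut.conj g⁻¹).toMonoidHom
  have hXU : X ≤ U := by
    rintro _ ⟨y, hy, rfl⟩
    rw [hUdef, mem_normalizer_iff]
    intro x
    have h1 := mem_normalizer_iff.mp hy.2 (g * x * g⁻¹)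
    have key : ∀ z, g * z * g⁻¹ ∈ T' ↔ z ∈ T := fun z => by
      rw [hT', mem_piSubgroup_iff]
      simp [mul_assoc]
    rw [← key, h1, ← key]
    simp [mul_assoc]
  have hX2 : IsPGroup 2 X := (S.isPGroup'.to_le inf_le_left).map _
  obtain ⟨c, hcK, hcX⟩ := layer_conj hR hdec hXU hX2
  have hcomm : ∀ x ∈ T, c * x * c⁻¹ = x := by
    intro x hx
    have h1 : c * x * c⁻¹ * x⁻¹ ∈ T :=
      mul_mem ((mem_normalizer_iff.mp (hKU hcK) x).mp hx) (inv_mem hx)
    have h2 : c * x * c⁻¹ * x⁻¹ ∈ K := by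
      have : x * c⁻¹ * x⁻¹ ∈ K :=
        (mem_normalizer_iff.mp (hKn (le_normalizer (H := T) hx)) c⁻¹).mp (inv_mem hcK)
      simpa [mul_assoc] using mul_mem hcK this
    have hcop : (Nat.card ↥T).Coprime (Nat.card ↥K) := by
      obtain ⟨n, hn⟩ := (S.isPGroup'.to_le hTS).exists_card_eq
      rw [hn]
      exact (Nat.coprime_two_left.mpr hKodd).pow_left n
    have h3 : c * x * c⁻¹ * x⁻¹ ∈ T ⊓ K := ⟨h1, h2⟩
    rw [(disjoint_of_coprime_natCard hcop).eq_bot, mem_bot, mul_inv_eq_one] at h3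
    exact h3
  obtain ⟨Q, hQ⟩ := hR.2.1.exists_le_sylow
  obtain ⟨h, hh⟩ := MulAction.exists_smul_eq G Q S
  have hRS : ∀ r ∈ R, h * r * h⁻¹ ∈ (S : Subgroup G) := by
    intro r hr
    rw [← hh]
    refine mem_pointwise_smul_iff_inv_smul_mem.mpr ?_
    simpa [MulAut.smul_def, mul_assoc] using hQ hr
  have m1 : Nat.card ↥(S : Subgroup G) - Nat.card ↥T₁ < k := by
    have := hcS T₁ inf_le_left
    omega
  obtain ⟨n₁, hn₁, e₁⟩ := ih _ m1 T₁ rfl h inf_le_left fun x hx => hRS x (hT₁R hx)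
  have m2 : Nat.card ↥(S : Subgroup G) - Nat.card ↥T₁' < k := by
    have := hcS T₁' inf_le_left
    omega
  obtain ⟨n₂, hn₂, e₂⟩ := ih _ m2 T₁' rfl (h * (c * g⁻¹)) inf_le_left fun y hy => by
    have := hRS _ (hcX _ (mem_map_of_mem (MulAut.conj g⁻¹).toMonoidHom hy))
    simpa [mul_assoc] using this
  refine ⟨n₂⁻¹ * n₁, mul_mem (inv_mem hn₂) hn₁, fun x hx => ?_⟩
  have hy : g * x * g⁻¹ ∈ T₁' :=
    ⟨hg x hx, le_normalizer (H := T') (mem_map_of_mem (MulAut.conj g).toMonoidHom hx)⟩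
  have h1 := e₂ _ hy
  have h2 := e₁ x ⟨hTS hx, le_normalizer (H := T) hx⟩
  have h3 : n₂ * (g * x * g⁻¹) * n₂⁻¹ = n₁ * x * n₁⁻¹ := by
    rw [h1, h2]
    calc h * (c * g⁻¹) * (g * x * g⁻¹) * (h * (c * g⁻¹))⁻¹ = h * (c * x * c⁻¹) * h⁻¹ := by group
      _ = h * x * h⁻¹ := by rw [hcomm x hx]
  calc n₂⁻¹ * n₁ * x * (n₂⁻¹ * n₁)⁻¹ = n₂⁻¹ * (n₁ * x * n₁⁻¹) * n₂ := by group
    _ = n₂⁻¹ * (n₂ * (g * x * g⁻¹) * n₂⁻¹) * n₂ := by rw [h3]
    _ = g * x * g⁻¹ := by group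

theorem notFixed (hc : Ctx π G) (S : Sylow 2 G) (z : G) (hz : z ∈ (S : Subgroup G))
    (hz2 : orderOf z = 2)
    (hfix : ∀ n ∈ normalizer ((S : Subgroup G) : Set G), n * z * n⁻¹ = z) : False := by
  haveI := hc.simple
  have hiso : ∀ g : G, g * z * g⁻¹ ∈ (S : Subgroup G) → g * z * g⁻¹ = z := by
    intro g hg
    obtain ⟨n, hn, he⟩ := fusion hc S (zpowers z) g (zpowers_le.mpr hz) (by
      intro x hx
      obtain ⟨i, rfl⟩ := mem_zpowers_iff.mp hx
      rw [← conj_zpow]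
      exact zpow_mem hg i)
    rw [← he z (mem_zpowers z), hfix n hn]
  obtain ⟨N, hN, hodd, hcm⟩ := S0215.result S z hz2 hz hiso
  rcases hN.eq_bot_or_eq_top with h | h
  · refine centralizer_ne_top hc (x := z) (fun h1 => ?_) ?_
    · rw [h1, orderOf_one] at hz2
      exact absurd hz2 (by norm_num)
    · refine eq_top_iff.mpr fun g _ => mem_centralizer_singleton_iff.mpr ?_
      have := hcm g
      rw [h, mem_bot, mul_inv_eq_one, mul_inv_eq_iff_eq_mul] at this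
      exact this.symm
  · rw [h, Subgroup.card_top] at hodd
    exact Nat.not_even_iff_odd.mpr hodd (even_iff_two_dvd.mpr (two_dvd hc))

theorem notNormal (hc : Ctx π G) (S : Sylow 2 G) : ¬ (S : Subgroup G).Normal := by
  intro hS
  haveI := hc.simple
  haveI : Fact (Nat.Prime 2) := ⟨Nat.prime_two⟩
  rcases hS.eq_bot_or_eq_top with h | h
  · exact S.ne_bot_of_dvd_card (two_dvd hc) h
  · have hG : IsPGroup 2 G := by
      have := S.isPGroup'
      rw [h] at this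
      exact this.of_equiv topEquiv
    haveI := hG.isNilpotent
    exact not_solvable hc inferInstance

theorem centre (hc : Ctx π G) (S : Sylow 2 G) :
    ∃ a ∈ (S : Subgroup G), ∃ b ∈ (S : Subgroup G), orderOf a = 2 ∧ orderOf b = 2 ∧ a ≠ b ∧
      (∀ s ∈ (S : Subgroup G), a * s = s * a) ∧ ∀ s ∈ (S : Subgroup G), b * s = s * b := by
  haveI : Fact (Nat.Prime 2) := ⟨Nat.prime_two⟩
  haveI : Nontrivial ↥(S : Subgroup G) :=
    (nontrivial_iff_ne_bot _).mpr (S.ne_bot_of_dvd_card (two_dvd hc))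
  haveI := S.isPGroup'.center_nontrivial
  obtain ⟨k, hk, he⟩ := (S.isPGroup'.to_subgroup (center ↥(S : Subgroup G))).nontrivial_iff_card.mp
    inferInstance
  obtain ⟨c, hc2⟩ := exists_prime_orderOf_dvd_card' (G := center ↥(S : Subgroup G)) 2
    (he ▸ dvd_pow_self 2 hk.ne')
  have hcent : ∀ s ∈ (S : Subgroup G), ((c : ↥(S : Subgroup G)) : G) * s = s * c := fun s hs =>
    (congrArg Subtype.val (mem_center_iff.mp c.2 ⟨s, hs⟩)).symm
  have hca : orderOf ((c : ↥(S : Subgroup G)) : G) = 2 := by rw [orderOf_coe, orderOf_coe, hc2]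
  by_contra hcon
  refine notFixed hc S _ (c : ↥(S : Subgroup G)).2 hca fun n hn => ?_
  by_contra hne
  refine hcon ⟨_, (c : ↥(S : Subgroup G)).2, n * c * n⁻¹,
    (mem_normalizer_iff.mp hn _).mp (c : ↥(S : Subgroup G)).2, hca, ?_, Ne.symm hne, hcent,
    fun s hs => ?_⟩
  · exact (orderOf_injective (MulAut.conj n).toMonoidHom (MulAut.conj n).injective _).trans hca
  · have h1 := hcent _ ((mem_normalizer_iff''.mp hn s).mp hs)
    calc n * c * n⁻¹ * s = n * ((c : ↥(S : Subgroup G)) * (n⁻¹ * s * n)) * n⁻¹ := by group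
      _ = n * (n⁻¹ * s * n * c) * n⁻¹ := by rw [h1]
      _ = s * (n * c * n⁻¹) := by group

end LocalAux

theorem localFacts : LocalStmt.{u} := fun _ _ _ _ hc =>
  { even := LocalAux.two_dvd hc
    solv := fun _ hU => LocalAux.solv hc hU
    centNe := fun _ hx => LocalAux.centralizer_ne_top hc hx
    normNe := fun _ h1 h2 => LocalAux.normalizer_ne_top hc h1 h2
    inverted := LocalAux.inverted hc
    layer := fun _ hU _ hT => LocalAux.layer hc hU hT
    fusion := fun S T g => LocalAux.fusion hc S T g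
    notFixed := LocalAux.notFixed hc
    notNormal := LocalAux.notNormal hc
    centre := LocalAux.centre hc }

end Cfsg.Agent.PiHom23
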