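import Cfsg.Agent.PiHom23.Defs
import Cfsg.Agent.S0949
import Cfsg.Agent.S1237
import Cfsg.Agent.S1248
import Mathlib.FieldTheory.Finite.GaloisField

/-!
# No minimal counterexample to S3258
-/

set_option autoImplicit false
set_option linter.style.haveILetI false

namespace Cfsg.Agent.PiHom23

open Subgroup

universe u

namespace MainAux

variable {G : Type u} [Group G]

theorem omegaZ_le (S : Subgroup G) : omegaZ S ≤ S := fun _ h => h.1

theorem omegaZ_elementary (S : Subgroup G) : Cfsg.IsElementaryAbelian 2 (omegaZ S) :=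
  ⟨⟨⟨fun a b => Subtype.ext (a.2.2.2 b b.2.1)⟩⟩, fun a ha => by rw [pow_two]; exact ha.2.1⟩

theorem sq_of_orderOf {M : Type*} [Monoid M] {a : M} (h : orderOf a = 2) : a * a = 1 := by
  rw [← pow_two]
  exact orderOf_dvd_iff_pow_eq_one.1 h.dvd

theorem sq_klein (y : Multiplicative (ZMod (2 ^ 1) × ZMod (2 ^ 1))) : y * y = 1 := by
  revert y
  decide

theorem two_pow_of_le [Finite G] (S : Sylow 2 G) {A : Subgroup G} (hA : A ≤ (S : Subgroup G)) :
    ∃ k : ℕ, Nat.card ↥A = 2 ^ k := by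
  haveI : Fact (Nat.Prime 2) := ⟨Nat.prime_two⟩
  exact IsPGroup.iff_card.1 (S.2.to_le hA)

theorem le_two_pow_of_lt [Finite G] (S : Sylow 2 G) {A : Subgroup G} (hA : A ≤ (S : Subgroup G))
    {m : ℕ} (h : 2 ^ m < Nat.card ↥A) : 2 ^ (m + 1) ≤ Nat.card ↥A := by
  obtain ⟨k, hk⟩ := two_pow_of_le S hA
  rw [hk] at h ⊢
  exact Nat.pow_le_pow_right (by norm_num) (Nat.succ_le_of_lt ((Nat.pow_lt_pow_iff_right (by norm_num)).1 h))

theorem four_le [Finite G] {π : Set ℕ} (hL : Local π G) (S : Sylow 2 G) :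
    4 ≤ Nat.card ↥(omegaZ (S : Subgroup G)) := by
  obtain ⟨a, ha, b, hb, ha2, hb2, hab, hac, hbc⟩ := hL.centre S
  have ha' : a ∈ omegaZ (S : Subgroup G) := ⟨ha, sq_of_orderOf ha2, hac⟩
  have hb' : b ∈ omegaZ (S : Subgroup G) := ⟨hb, sq_of_orderOf hb2, hbc⟩
  have ha1 : a ≠ 1 := by rintro rfl; simp at ha2
  have hb1 : b ≠ 1 := by rintro rfl; simp at hb2
  refine le_two_pow_of_lt S (omegaZ_le _) (m := 1) ?_
  have hs : ({1, a, b} : Set G) ⊆ (omegaZ (S : Subgroup G) : Set G) := by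
    rintro w (rfl | rfl | rfl)
    exacts [one_mem _, ha', hb']
  have := Set.ncard_le_ncard hs (Set.toFinite _)
  rw [Set.ncard_insert_of_notMem (by simp [ha1.symm, hb1.symm]), Set.ncard_pair hab,
    ← Nat.card_coe_set_eq] at this
  exact (show (2 : ℕ) ^ 1 < 2 + 1 by norm_num).trans_le this

/-- Either the rank is at least three, or the involutions of `S` are central. -/
theorem rank_cases [Finite G] {π : Set ℕ} (hL : Local π G) (S : Sylow 2 G) :
    (∃ A : Subgroup G, A ≤ (S : Subgroup G) ∧ Cfsg.IsElementaryAbelian 2 A ∧ 8 ≤ Nat.card ↥A) ∨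
      ((∀ x ∈ (S : Subgroup G), x * x = 1 → x ∈ omegaZ (S : Subgroup G)) ∧
        Nat.card ↥(omegaZ (S : Subgroup G)) = 4 ∧
        ∀ A : Subgroup G, A ≤ (S : Subgroup G) → Cfsg.IsElementaryAbelian 2 A →
          Nat.card ↥A ≤ 4) := by
  refine or_iff_not_imp_left.2 fun h => ?_
  push Not at h
  have hle : ∀ A : Subgroup G, A ≤ (S : Subgroup G) → Cfsg.IsElementaryAbelian 2 A →
      Nat.card ↥A ≤ 4 := fun A hA hE => by
    by_contra hcon
    have := le_two_pow_of_lt S hA (m := 2) (not_le.1 hcon)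
    have := h A hA hE
    omega
  refine ⟨fun x hx hx2 => ?_,
    le_antisymm (hle _ (omegaZ_le _) (omegaZ_elementary _)) (four_le hL S), hle⟩
  set C := (S : Subgroup G) ⊓ centralizer ({x} : Set G)
  have hZA : omegaZ (S : Subgroup G) ≤ omegaZ C := fun z hz =>
    ⟨⟨hz.1, mem_centralizer_singleton_iff.2 (hz.2.2 x hx)⟩, hz.2.1, fun s hs => hz.2.2 s hs.1⟩
  have heq : omegaZ (S : Subgroup G) = omegaZ C := eq_of_le_of_card_ge hZA
    ((hle _ (fun a (ha : a ∈ omegaZ C) => (show a ∈ C from ha.1).1) (omegaZ_elementary _)).trans (four_le hL S))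
  rw [heq]
  exact ⟨⟨hx, mem_centralizer_singleton_iff.2 rfl⟩, hx2,
    fun s hs => (mem_centralizer_singleton_iff.1 hs.2).symm⟩

theorem conj_mem_omegaZ {S : Subgroup G} {n z : G} (hn : n ∈ normalizer (S : Set G))
    (hz : z ∈ omegaZ S) : n * z * n⁻¹ ∈ omegaZ S := by
  refine ⟨(mem_normalizer_iff.1 hn z).1 hz.1, ?_, fun s hs => ?_⟩
  · rw [show n * z * n⁻¹ * (n * z * n⁻¹) = n * (z * z) * n⁻¹ by group, hz.2.1, mul_one,
      mul_inv_cancel]
  · have h' : n⁻¹ * s * n ∈ S := (mem_normalizer_iff''.1 hn s).1 hs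
    calc n * z * n⁻¹ * s = n * (z * (n⁻¹ * s * n)) * n⁻¹ := by group
      _ = n * (n⁻¹ * s * n * z) * n⁻¹ := by rw [hz.2.2 _ h']
      _ = s * (n * z * n⁻¹) := by group

/-- `N(S)` is transitive on the three involutions. -/
theorem trans_of_card [Finite G] {π : Set ℕ} (hL : Local π G) (S : Sylow 2 G)
    (h4 : Nat.card ↥(omegaZ (S : Subgroup G)) = 4) {a b : G}
    (ha : a ∈ omegaZ (S : Subgroup G)) (ha1 : a ≠ 1)
    (hb : b ∈ omegaZ (S : Subgroup G)) (hb1 : b ≠ 1) :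
    ∃ n ∈ normalizer ((S : Subgroup G) : Set G), n * a * n⁻¹ = b := by
  set Z := omegaZ (S : Subgroup G) with hZ
  by_cases hab : a = b
  · exact ⟨1, one_mem _, by simp [hab]⟩
  by_contra hno
  push Not at hno
  have key : ∀ z ∈ Z, z ≠ 1 → z = a ∨ z = b ∨ z = a * b := by
    intro z hz hz1
    by_contra hcon
    push Not at hcon
    have hab1 : a * b ≠ 1 := fun h => hab ((inv_eq_of_mul_eq_one_right h).symm.trans
      (inv_eq_of_mul_eq_one_right ha.2.1)).symm
    have hsub : ({1, a, b, a * b, z} : Set G) ⊆ (Z : Set G) := by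
      rintro w (rfl | rfl | rfl | rfl | rfl)
      exacts [one_mem _, ha, hb, mul_mem ha hb, hz]
    have hle := Set.ncard_le_ncard hsub (Set.toFinite _)
    have h5 : ({1, a, b, a * b, z} : Set G).ncard = 5 := by
      rw [Set.ncard_insert_of_notMem, Set.ncard_insert_of_notMem, Set.ncard_insert_of_notMem,
        Set.ncard_pair hcon.2.2.symm] <;>
      simp [ha1.symm, hb1.symm, hab1.symm, hz1.symm, hab, hcon.1.symm, hcon.2.1.symm, ha1, hb1]
    rw [h5, ← Nat.card_coe_set_eq] at hle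
    exact absurd (h4 ▸ hle : 5 ≤ 4) (by omega)
  have hne : ∀ z ∈ Z, z ≠ 1 → ∀ n : G, n * z * n⁻¹ ≠ 1 := fun z _ hz1 n h => hz1 (by simpa using h)
  have hbfix : ∀ m ∈ normalizer ((S : Subgroup G) : Set G), m * b * m⁻¹ ≠ a := fun m hm h =>
    hno m⁻¹ (inv_mem hm) (by rw [← h]; group)
  have ho : ∀ z ∈ Z, z ≠ 1 → orderOf z = 2 := fun z hz hz1 =>
    orderOf_eq_prime (p := 2) (by rw [pow_two]; exact hz.2.1) hz1
  by_cases hfix : ∀ m ∈ normalizer ((S : Subgroup G) : Set G), m * b * m⁻¹ = b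
  · exact hL.notFixed S b hb.1 (ho b hb hb1) hfix
  push Not at hfix
  obtain ⟨m, hm, hmb⟩ := hfix
  rcases key _ (conj_mem_omegaZ hm hb) (hne b hb hb1 m) with h | h | h
  · exact hbfix m hm h
  · exact hmb h
  refine hL.notFixed S a ha.1 (ho a ha ha1) fun n hn => ?_
  rcases key _ (conj_mem_omegaZ hn ha) (hne a ha ha1 n) with h' | h' | h'
  · exact h'
  · exact absurd h' (hno n hn)
  · refine absurd ?_ (hno (m⁻¹ * n) (mul_mem (inv_mem hm) hn))
    calc m⁻¹ * n * a * (m⁻¹ * n)⁻¹ = m⁻¹ * (n * a * n⁻¹) * m := by group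
      _ = m⁻¹ * (m * b * m⁻¹) * m := by rw [h', h]
      _ = b := by group

end MainAux

open MainAux

/-- An automorphism of `S` with powers transitive on the involutions. -/
theorem MainAux.exists_cycle {G : Type u} [Group G] [Finite G] {π : Set ℕ} (hL : Local π G)
    (S : Sylow 2 G) (hcent : ∀ x ∈ (S : Subgroup G), x * x = 1 → x ∈ omegaZ (S : Subgroup G))
    (h4 : Nat.card ↥(omegaZ (S : Subgroup G)) = 4) :
    ∃ φ : MulAut ↥(S : Subgroup G), ∀ s t : ↥(S : Subgroup G), orderOf s = 2 → orderOf t = 2 →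
      ∃ k : ℕ, (φ ^ k) s = t := by
  set N := normalizer ((S : Subgroup G) : Set G) with hN
  set Z := omegaZ (S : Subgroup G) with hZ
  obtain ⟨a, ha, b, hb, ha2, hb2, hab, hac, hbc⟩ := hL.centre S
  have haZ : a ∈ Z := ⟨ha, sq_of_orderOf ha2, hac⟩
  have hbZ : b ∈ Z := ⟨hb, sq_of_orderOf hb2, hbc⟩
  have ha1 : a ≠ 1 := by rintro rfl; simp at ha2
  have hb1 : b ≠ 1 := by rintro rfl; simp at hb2
  set c := a * b with hc
  have hcZ : c ∈ Z := mul_mem haZ hbZ
  have hc1 : c ≠ 1 := fun h => hab ((inv_eq_of_mul_eq_one_right h).symm.trans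
      (inv_eq_of_mul_eq_one_right haZ.2.1)).symm
  have hca : c ≠ a := fun h => hb1 (mul_left_cancel (a := a) (by rw [← hc, h, mul_one]))
  have hcb : c ≠ b := fun h => ha1 (mul_right_cancel (b := b) (by rw [← hc, h, one_mul]))
  have key : ∀ z ∈ Z, z ≠ 1 → z = a ∨ z = b ∨ z = c := by
    intro z hz hz1
    by_contra hcon
    push Not at hcon
    have hsub : ({1, a, b, c, z} : Set G) ⊆ (Z : Set G) := by
      rintro w (rfl | rfl | rfl | rfl | rfl)
      exacts [one_mem _, haZ, hbZ, hcZ, hz]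
    have hle := Set.ncard_le_ncard hsub (Set.toFinite _)
    have h5 : ({1, a, b, c, z} : Set G).ncard = 5 := by
      rw [Set.ncard_insert_of_notMem, Set.ncard_insert_of_notMem, Set.ncard_insert_of_notMem,
        Set.ncard_pair hcon.2.2.symm] <;>
      simp [ha1.symm, hb1.symm, hc1.symm, hz1.symm, hab, hca.symm, hcb.symm, hcon.1.symm,
        hcon.2.1.symm]
    rw [h5, ← Nat.card_coe_set_eq] at hle
    exact absurd (h4 ▸ hle : 5 ≤ 4) (by omega)
  have inj : ∀ n z w : G, n * z * n⁻¹ = n * w * n⁻¹ → z = w := fun n z w h => by simpa using h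
  have img : ∀ n ∈ N, ∀ z ∈ Z, z ≠ 1 →
      n * z * n⁻¹ = a ∨ n * z * n⁻¹ = b ∨ n * z * n⁻¹ = c := fun n hn z hz hz1 =>
    key _ (conj_mem_omegaZ hn hz) fun h => hz1 (by simpa using h)
  -- a 3-cycle on `a`, `b`, `c`
  obtain ⟨g, hg, gab, gbc⟩ : ∃ g ∈ N, g * a * g⁻¹ = b ∧ g * b * g⁻¹ = c := by
    obtain ⟨m, hm, mab⟩ := trans_of_card hL S h4 haZ ha1 hbZ hb1
    rcases img m hm b hbZ hb1 with h | h | h
    swap
    · exact absurd (inj m b a (h.trans mab.symm)) hab.symm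
    swap
    · exact ⟨m, hm, mab, h⟩
    have mcc : m * c * m⁻¹ = c := by
      rcases img m hm c hcZ hc1 with h' | h' | h'
      · exact absurd (inj m c b (h'.trans h.symm)) hcb
      · exact absurd (inj m c a (h'.trans mab.symm)) hca
      · exact h'
    obtain ⟨p, hp, pca⟩ := trans_of_card hL S h4 hcZ hc1 haZ ha1
    rcases img p hp a haZ ha1 with h' | h' | h'
    · exact absurd (inj p a c (h'.trans pca.symm)) hca.symm
    · rcases img p hp b hbZ hb1 with h'' | h'' | h''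
      · exact absurd (inj p b c (h''.trans pca.symm)) hcb.symm
      · exact absurd (inj p b a (h''.trans h'.symm)) hab.symm
      · exact ⟨p, hp, h', h''⟩
    · have pbb : p * b * p⁻¹ = b := by
        rcases img p hp b hbZ hb1 with h'' | h'' | h''
        · exact absurd (inj p b c (h''.trans pca.symm)) hcb.symm
        · exact h''
        · exact absurd (inj p b a (h''.trans h'.symm)) hab.symm
      refine ⟨p * m, mul_mem hp hm, ?_, ?_⟩
      · rw [show p * m * a * (p * m)⁻¹ = p * (m * a * m⁻¹) * p⁻¹ by group, mab, pbb]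
      · rw [show p * m * b * (p * m)⁻¹ = p * (m * b * m⁻¹) * p⁻¹ by group, h, h']
  have gca : g * c * g⁻¹ = a := by
    rcases img g hg c hcZ hc1 with h | h | h
    · exact h
    · exact absurd (inj g c a (h.trans gab.symm)) hca
    · exact absurd (inj g c b (h.trans gbc.symm)) hcb
  refine ⟨(S : Subgroup G).normalizerMonoidHom ⟨g, hg⟩, fun s t hs ht => ?_⟩
  have hpow : ∀ k : ℕ, ((((S : Subgroup G).normalizerMonoidHom ⟨g, hg⟩) ^ k) s : G)
      = g ^ k * (s : G) * (g ^ k)⁻¹ := fun k => by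
    rw [← map_pow]
    rfl
  suffices h : ∃ k : ℕ, g ^ k * (s : G) * (g ^ k)⁻¹ = t by
    obtain ⟨k, hk⟩ := h
    exact ⟨k, Subtype.ext ((hpow k).trans hk)⟩
  have mem : ∀ x : ↥(S : Subgroup G), orderOf x = 2 → (x : G) = a ∨ (x : G) = b ∨ (x : G) = c := by
    intro x hx
    have hx' : orderOf (x : G) = 2 := by rw [Subgroup.orderOf_coe, hx]
    exact key _ (hcent _ x.2 (sq_of_orderOf hx')) fun h => by simp [h] at hx'
  have g2 : ∀ z, g ^ 2 * z * (g ^ 2)⁻¹ = g * (g * z * g⁻¹) * g⁻¹ := fun z => by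
    simp only [pow_two, mul_inv_rev, mul_assoc]
  rcases mem s hs with hs' | hs' | hs' <;> rcases mem t ht with ht' | ht' | ht' <;>
    rw [hs', ht']
  · exact ⟨0, by simp⟩
  · exact ⟨1, by simpa using gab⟩
  · exact ⟨2, by rw [g2, gab, gbc]⟩
  · exact ⟨2, by rw [g2, gbc, gca]⟩
  · exact ⟨0, by simp⟩
  · exact ⟨1, by simpa using gbc⟩
  · exact ⟨1, by simpa using gca⟩
  · exact ⟨2, by rw [g2, gca, gab]⟩
  · exact ⟨0, by simp⟩

/-- There is no minimal counterexample. -/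
theorem ctxFalse (hLoc : LocalStmt.{u}) (hEmb : EmbeddedStmt.{u}) (hR3 : RankThreeStmt.{u})
    (hK : KleinKillStmt.{u}) (hSp : U34SplitStmt.{u}) (hSz : U34SuzukiStmt.{u})
    (hF : FiveKillStmt.{u}) : CtxFalseStmt.{u} := by
  intro π G _ _ hc
  haveI : Fact (Nat.Prime 2) := ⟨Nat.prime_two⟩
  have hL := hLoc π G hc
  let S : Sylow 2 G := default
  rcases rank_cases hL S with ⟨A, hA, hE, h8⟩ | ⟨hcent, h4, hle⟩
  · exact hEmb π G hc hL S (hR3 π G hc hL S A hA hE h8)
  set Z := omegaZ (S : Subgroup G) with hZ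
  have htwo : RankTwo S Z :=
    ⟨h4, omegaZ_le _, fun x hx => ⟨hcent x hx, fun h => h.2.1⟩, fun e he => he.2.2,
      fun a ha ha1 b hb hb1 => trans_of_card hL S h4 ha ha1 hb hb1⟩
  obtain ⟨φ, hφ⟩ := exists_cycle hL S hcent h4
  have h2 : Cfsg.PRankLE 2 2 ↥(S : Subgroup G) := by
    intro A hA hA2
    have hE : Cfsg.IsElementaryAbelian 2 (A.map (S : Subgroup G).subtype) := by
      refine ⟨⟨⟨?_⟩⟩, ?_⟩
      · rintro ⟨_, x, hx, rfl⟩ ⟨_, y, hy, rfl⟩
        have := congrArg Subtype.val (hA.is_comm.comm ⟨x, hx⟩ ⟨y, hy⟩)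
        exact Subtype.ext (congrArg (fun w => (S : Subgroup G).subtype w) this)
      · rintro _ ⟨x, hx, rfl⟩
        rw [← map_pow, hA2 x hx, map_one]
    have := hle _ (map_subtype_le A) hE
    rwa [Subgroup.card_subtype] at this
  have h1 : ¬ Cfsg.PRankLE 2 1 ↥(S : Subgroup G) := by
    intro h
    have hcard : Nat.card ↥(Z.subgroupOf (S : Subgroup G)) = 4 := by
      rw [Nat.card_congr (subgroupOfEquivOfLe (omegaZ_le _)).toEquiv, h4]
    have h' := h (Z.subgroupOf (S : Subgroup G))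
      ⟨⟨fun a b => Subtype.ext (Subtype.ext ((mem_subgroupOf.1 a.2).2.2 _ b.1.2))⟩⟩
      fun a ha => Subtype.ext (by
        rw [Subgroup.coe_pow, pow_two]
        exact (mem_subgroupOf.1 ha).2.1)
    omega
  haveI := Fintype.ofFinite (GaloisField 2 4)
  have hFcard : Fintype.card (GaloisField 2 4) = 16 := by
    rw [← Nat.card_eq_fintype_card, GaloisField.card 2 4 (by norm_num)]
    norm_num
  let P : Sylow 2 (Cfsg.PSU 3 (GaloisField 2 4) 4) := default
  rcases S1237.result S.2 h2 h1 φ hφ hFcard P with ⟨n, hn, ⟨e⟩⟩ | ⟨⟨e⟩⟩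
  · rcases Nat.lt_or_ge n 2 with hn2 | hn2
    · obtain rfl : n = 1 := by omega
      have hall : ∀ x ∈ (S : Subgroup G), x * x = 1 := fun x hx => by
        have h : (⟨x, hx⟩ : ↥(S : Subgroup G)) * ⟨x, hx⟩ = 1 := e.injective (by
          rw [map_mul, map_one]
          exact sq_klein _)
        exact congrArg Subtype.val h
      have hSZ : (S : Subgroup G) = Z := le_antisymm (fun x hx => hcent x hx (hall x hx))
        (omegaZ_le _)
      exact hK π G hc hL S (hSZ.symm ▸ htwo)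
    · refine hL.notNormal S (S0949.result S n hn2 e fun N hN hodd => ?_).1
      rcases hc.simple.eq_bot_or_eq_top_of_normal N hN with h | h
      · exact h
      · rw [h, Subgroup.card_top] at hodd
        exact absurd (even_iff_two_dvd.2 hL.even) (Nat.not_even_iff_odd.2 hodd)
  obtain ⟨h64, hkl, -, -, h16, hsq⟩ := S1248.result hFcard P
  have hcsq : ∀ y ∈ center (P : Subgroup (Cfsg.PSU 3 (GaloisField 2 4) 4)), y * y = 1 := by
    intro y hy
    have := Monoid.pow_exponent_eq_one (⟨y, hy⟩ : ↥(center (P : Subgroup (Cfsg.PSU 3 (GaloisField 2 4) 4))))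
    rw [hkl.exponent_two, pow_two] at this
    exact congrArg Subtype.val this
  have mem_center_sq : ∀ y : ↥(P : Subgroup (Cfsg.PSU 3 (GaloisField 2 4) 4)),
      y * y ∈ center (P : Subgroup (Cfsg.PSU 3 (GaloisField 2 4) 4)) := fun y => by
    rw [← QuotientGroup.eq_one_iff, QuotientGroup.mk_mul, ← pow_two]
    exact hsq _
  have inZ : ∀ x : ↥(S : Subgroup G), e x ∈ center (P : Subgroup (Cfsg.PSU 3 (GaloisField 2 4) 4)) → (x : G) ∈ Z :=
    fun x hx => hcent _ x.2 (congrArg Subtype.val (e.injective (by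
      rw [map_mul, map_one]
      exact hcsq _ hx) : x * x = 1))
  have hcard : Nat.card ↥(S : Subgroup G) = 64 := (Nat.card_congr e.toEquiv).trans h64
  have hcomm : ∀ x ∈ (S : Subgroup G), ∀ y ∈ (S : Subgroup G), x * y * x⁻¹ * y⁻¹ ∈ Z := by
    intro x hx y hy
    refine inZ ⟨x * y * x⁻¹ * y⁻¹,
      mul_mem (mul_mem (mul_mem hx hy) (inv_mem hx)) (inv_mem hy)⟩ ?_
    rw [show (⟨x * y * x⁻¹ * y⁻¹, mul_mem (mul_mem (mul_mem hx hy) (inv_mem hx)) (inv_mem hy)⟩ :
      ↥(S : Subgroup G)) = ⟨x, hx⟩ * ⟨y, hy⟩ * ⟨x, hx⟩⁻¹ * ⟨y, hy⟩⁻¹ from rfl, map_mul, map_mul,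
      map_mul, map_inv, map_inv, ← QuotientGroup.eq_one_iff]
    simp only [QuotientGroup.mk_mul, QuotientGroup.mk_inv]
    have hinv : ∀ q : ↥(P : Subgroup (Cfsg.PSU 3 (GaloisField 2 4) 4)) ⧸ center (P : Subgroup (Cfsg.PSU 3 (GaloisField 2 4) 4)), q⁻¹ = q := fun q =>
      inv_eq_of_mul_eq_one_right (by rw [← pow_two]; exact hsq q)
    generalize (QuotientGroup.mk (e ⟨x, hx⟩) : ↥(P : Subgroup (Cfsg.PSU 3 (GaloisField 2 4) 4)) ⧸ center (P : Subgroup (Cfsg.PSU 3 (GaloisField 2 4) 4))) = p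
    generalize (QuotientGroup.mk (e ⟨y, hy⟩) : ↥(P : Subgroup (Cfsg.PSU 3 (GaloisField 2 4) 4)) ⧸ center (P : Subgroup (Cfsg.PSU 3 (GaloisField 2 4) 4))) = q
    rw [hinv p, hinv q, mul_assoc (p * q) p q, ← pow_two]
    exact hsq _
  have hU : U34Type S Z :=
    ⟨htwo, hcard, fun x hx => inZ ⟨x * x, mul_mem hx hx⟩ (by
      rw [show (⟨x * x, mul_mem hx hx⟩ : ↥(S : Subgroup G)) = ⟨x, hx⟩ * ⟨x, hx⟩ from rfl, map_mul]
      exact mem_center_sq _), hcomm, by
      by_contra hab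
      push Not at hab
      have htop : center (P : Subgroup (Cfsg.PSU 3 (GaloisField 2 4) 4)) = ⊤ := by
        refine eq_top_iff.2 fun y _ => mem_center_iff.2 fun z => ?_
        obtain ⟨x, rfl⟩ := e.surjective y
        obtain ⟨w, rfl⟩ := e.surjective z
        rw [← map_mul, ← map_mul]
        exact congrArg e (Subtype.ext (hab _ w.2 _ x.2))
      have := hkl.card_four
      rw [htop, Subgroup.card_top, h64] at this
      omega⟩
  rcases hSp π G hc hL S Z hU with h | h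
  · exact hSz π G hc hL S Z hU h
  · exact hF π G hc hL S Z hU.toRankTwo h

end Cfsg.Agent.PiHom23
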