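import Cfsg.Agent.PiHom23.Defs
import Cfsg.Agent.Signal38.Basic
import Cfsg.Agent.SFT45.Final

/-!
# S3258: the signalizer functor theorem in rank at least three
-/

set_option autoImplicit false

open Subgroup

namespace Cfsg.Agent.PiHom23

universe u

namespace RankThreeAux

variable {G : Type u} [Group G]

/-- `A · Ω₁(Z(S))` as a subgroup. -/
def joined (S A : Subgroup G) (hA : A ≤ S) : Subgroup G where
  carrier := {x | ∃ a ∈ A, ∃ z ∈ omegaZ S, x = a * z}
  one_mem' := ⟨1, one_mem _, 1, one_mem _, (mul_one 1).symm⟩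
  mul_mem' := by
    rintro _ _ ⟨a, ha, z, hz, rfl⟩ ⟨b, hb, w, hw, rfl⟩
    refine ⟨a * b, mul_mem ha hb, z * w, mul_mem hz hw, ?_⟩
    have h : z * b = b * z := hz.2.2 b (hA hb)
    rw [← mul_assoc, mul_assoc a z b, h, ← mul_assoc, mul_assoc (a * b) z w]
  inv_mem' := by
    rintro _ ⟨a, ha, z, hz, rfl⟩
    refine ⟨a⁻¹, inv_mem ha, z⁻¹, inv_mem hz, ?_⟩
    rw [mul_inv_rev]
    exact (inv_mem hz : z⁻¹ ∈ omegaZ S).2.2 _ (inv_mem (hA ha))

theorem le_joined {S A : Subgroup G} (hA : A ≤ S) : A ≤ joined S A hA := fun a ha =>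
  ⟨a, ha, 1, one_mem _, (mul_one a).symm⟩

theorem omegaZ_le_joined {S A : Subgroup G} (hA : A ≤ S) : omegaZ S ≤ joined S A hA := fun z hz =>
  ⟨1, one_mem _, z, hz, (one_mul z).symm⟩

theorem joined_elementary {S A : Subgroup G} (hA : A ≤ S) (hel : Cfsg.IsElementaryAbelian 2 A) :
    Cfsg.IsElementaryAbelian 2 (joined S A hA) := by
  obtain ⟨hc, hp⟩ := hel
  have hcomm : ∀ a ∈ A, ∀ b ∈ A, a * b = b * a := fun a ha b hb =>
    congrArg Subtype.val (hc.is_comm.comm (⟨a, ha⟩ : A) ⟨b, hb⟩)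
  refine ⟨⟨⟨?_⟩⟩, ?_⟩
  · rintro ⟨_, a, ha, z, hz, rfl⟩ ⟨_, b, hb, w, hw, rfl⟩
    apply Subtype.ext
    change a * z * (b * w) = b * w * (a * z)
    calc a * z * (b * w) = a * (z * b) * w := by simp only [mul_assoc]
      _ = (a * b) * (z * w) := by rw [hz.2.2 b (hA hb)]; simp only [mul_assoc]
      _ = (b * a) * (w * z) := by rw [hcomm a ha b hb, hz.2.2 w hw.1]
      _ = b * (a * w) * z := by simp only [mul_assoc]
      _ = b * w * (a * z) := by rw [← hw.2.2 a (hA ha)]; simp only [mul_assoc]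
  · rintro _ ⟨a, ha, z, hz, rfl⟩
    have h : Commute a z := (hz.2.2 a (hA ha)).symm
    rw [h.mul_pow, hp a ha, one_mul, pow_two, hz.2.1]

end RankThreeAux

open RankThreeAux in
/-- Rank at least three: the cores generate an odd subgroup. -/
theorem rankThree : RankThreeStmt.{u} := by
  intro π G _ _ _ hL S A hAS hA h8 htop
  have := Fact.mk Nat.prime_two
  set B := joined (S : Subgroup G) A hAS
  have hB : Cfsg.IsElementaryAbelian 2 B := joined_elementary hAS hA
  have hB8 : 8 ≤ Nat.card B := h8.trans (card_le_of_le (le_joined hAS))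
  have hθ : Cfsg.IsSolvableSignalizerFunctor 2 B (fun a => Cfsg.centralizerPPrimeCore 2 a) :=
    Signal38.isSolvableSignalizerFunctor_centralizerPPrimeCore hB
      (fun a _ ha1 => hL.solv _ (hL.centNe a ha1))
  obtain ⟨-, X, -, hodd, hfix⟩ := SFT45.isComplete_two (A := B) hB (by simpa using hB8) hθ
  have hle : coreW (S : Subgroup G) ≤ X := iSup_le fun a =>
    (hfix a.1 (omegaZ_le_joined hAS a.2.1) a.2.2).ge.trans inf_le_left
  rw [htop, top_le_iff] at hle
  exact hodd (by rw [hle, Subgroup.card_top]; exact hL.even)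

end Cfsg.Agent.PiHom23
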