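import Cfsg.Agent.PiHom23.Defs
import Cfsg.Agent.PiHom72.Main
import Cfsg.Agent.Lib.Coprime.Action
import Cfsg.Agent.PF14.Compose
import Mathlib.GroupTheory.Perm.Cycle.Type
import Mathlib.GroupTheory.SchurZassenhaus

/-!
# Reduction of S3258 to a simple minimal counterexample, and the converse direction
-/

set_option autoImplicit false
set_option linter.unusedSectionVars false
set_option linter.style.haveILetI false

namespace Cfsg.Agent.PiHom23

open Subgroup

universe u

namespace Red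

variable {π : Set ℕ}

/-- An element whose order involves no prime of `π`. -/
def PEl (π : Set ℕ) {G : Type u} [Group G] (x : G) : Prop :=
  ∀ p : ℕ, p.Prime → p ∣ orderOf x → p ∉ π

/-- A subgroup whose order involves no prime of `π`. -/
def PCompl (π : Set ℕ) {G : Type u} [Group G] (K : Subgroup G) : Prop :=
  ∀ p : ℕ, p.Prime → p ∣ Nat.card ↥K → p ∉ π

/-- Elementwise form of `Homog`. -/
def EHom (π : Set ℕ) (G : Type u) [Group G] : Prop :=
  ∀ H : Subgroup G, H ≠ ⊥ → PiSub π H → ∀ p : ℕ, p.Prime → p ∉ π →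
    ∀ n ∈ normalizer (H : Set G), (∃ k, orderOf n = p ^ k) → n ∈ centralizer (H : Set G)

theorem coprime_of_sets {a b : ℕ} (ha : ∀ p : ℕ, p.Prime → p ∣ a → p ∉ π)
    (hb : ∀ p : ℕ, p.Prime → p ∣ b → p ∈ π) : a.Coprime b :=
  Nat.coprime_of_dvd fun p hp h1 h2 => ha p hp h1 (hb p hp h2)

section

variable {G : Type u} [Group G]

theorem conj_pEl {x : G} (g : G) (hx : PEl π x) : PEl π (g * x * g⁻¹) := by
  intro p hp hd
  have h1 : orderOf (MulAut.conj g x) = orderOf x :=
    orderOf_injective (MulAut.conj g).toMonoidHom (MulAut.conj g).injective x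
  rw [MulAut.conj_apply] at h1
  exact hx p hp (h1 ▸ hd)

theorem pEl_of_pow {n : G} {p k : ℕ} (hp : p.Prime) (hpπ : p ∉ π) (hk : orderOf n = p ^ k) :
    PEl π n := by
  intro q hq hd
  rw [hk] at hd
  exact (Nat.prime_dvd_prime_iff_eq hq hp).mp (hq.dvd_of_dvd_pow hd) ▸ hpπ

theorem pCompl_of_forall [Finite G] {K : Subgroup G} (h : ∀ x ∈ K, PEl π x) : PCompl π K := by
  intro p hp hd
  haveI : Fact p.Prime := ⟨hp⟩
  obtain ⟨x, hx⟩ := exists_prime_orderOf_dvd_card' (G := ↥K) p hd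
  rw [← Subgroup.orderOf_coe] at hx
  exact h x x.2 p hp (hx ▸ dvd_rfl)

theorem pEl_of_mem {K : Subgroup G} (h : PCompl π K) {x : G} (hx : x ∈ K) : PEl π x :=
  fun p hp hd => h p hp (hd.trans (Subgroup.orderOf_dvd_natCard K hx))

theorem mem_piSub [Finite G] {H : Subgroup G} (hH : PiSub π H) {x : G} (hx : x ∈ H)
    (hx' : PEl π x) : x = 1 :=
  orderOf_eq_one_iff.mp (Nat.eq_one_iff_not_exists_prime_dvd.mpr fun p hp hd =>
    hx' p hp hd (hH p hp (hd.trans (Subgroup.orderOf_dvd_natCard H hx))))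

theorem not_dvd_relIndex [Finite G] {C N : Subgroup G} {p : ℕ} (hp : p.Prime)
    (h : ∀ n ∈ N, (∃ k, orderOf n = p ^ k) → n ∈ C) : ¬ p ∣ C.relIndex N := by
  haveI : Fact p.Prime := ⟨hp⟩
  obtain ⟨P⟩ : Nonempty (Sylow p ↥N) := inferInstance
  have hle : (P : Subgroup ↥N) ≤ C.subgroupOf N := by
    intro x hx
    obtain ⟨k, hk⟩ := IsPGroup.iff_orderOf.mp P.2 ⟨x, hx⟩
    exact Subgroup.mem_subgroupOf.mpr (h x x.2 ⟨k, by
      rw [Subgroup.orderOf_coe, ← hk]
      exact Subgroup.orderOf_coe (⟨x, hx⟩ : ↥(P : Subgroup ↥N))⟩)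
  exact fun hd => P.not_dvd_index (hd.trans (Subgroup.index_dvd_of_le hle))

theorem eHom_of_homog [Finite G] (h : Homog π G) : EHom π G := by
  intro H hH1 hHπ p hp hpπ n hn ⟨k, hk⟩
  set C := centralizer (H : Set G)
  set N := normalizer (H : Set G)
  haveI : (C.subgroupOf N).Normal :=
    ⟨fun x hx y => PiHom72.conj_mem_centralizer (g := (y : G)) y.2 hx⟩
  have hcop : (p ^ k).Coprime (C.relIndex N) :=
    Nat.Coprime.pow_left _ (hp.coprime_iff_not_dvd.mpr fun hd => hpπ (h H hH1 hHπ p hp hd))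
  have h1 : ((⟨n, hn⟩ : ↥N) : ↥N ⧸ C.subgroupOf N) ^ (p ^ k) = 1 := by
    rw [← QuotientGroup.mk_pow]
    refine (QuotientGroup.eq_one_iff _).mpr ?_
    simp [Subgroup.mem_subgroupOf, ← hk, pow_orderOf_eq_one]
  have h2 : ((⟨n, hn⟩ : ↥N) : ↥N ⧸ C.subgroupOf N) ^ C.relIndex N = 1 := pow_card_eq_one'
  have h3 := pow_gcd_eq_one.mpr ⟨h1, h2⟩
  rw [hcop.gcd_eq_one, pow_one] at h3
  exact Subgroup.mem_subgroupOf.mp ((QuotientGroup.eq_one_iff _).mp h3)

theorem homog_of_eHom [Finite G] (h : EHom π G) : Homog π G := by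
  intro H hH1 hHπ p hp hd
  by_contra hpπ
  exact not_dvd_relIndex hp (fun n hn hk => h H hH1 hHπ p hp hpπ n hn hk) hd

/-- A power of `g` of `p`-power order with the same image. -/
theorem exists_pPart [Finite G] {Q : Type u} [Group Q] (f : G →* Q) {p k : ℕ} (hp : p.Prime)
    (g : G) (hg : orderOf (f g) = p ^ k) :
    ∃ e : ℕ, (∃ j, orderOf (g ^ e) = p ^ j) ∧ f (g ^ e) = f g := by
  set o := orderOf g with ho
  have ho0 : o ≠ 0 := (orderOf_pos g).ne'
  set a := o.factorization p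
  set r := o / p ^ a
  have hr : p ^ a * r = o := Nat.ordProj_mul_ordCompl_eq_self o p
  have hcop : (p ^ a).Coprime r := Nat.Coprime.pow_left _ (Nat.coprime_ordCompl hp ho0)
  obtain ⟨e, he1, he2⟩ := Nat.chineseRemainder hcop 1 0
  refine ⟨e, ?_, ?_⟩
  · obtain ⟨c, hc⟩ := Nat.modEq_zero_iff_dvd.mp he2
    have h1 : (g ^ e) ^ (p ^ a) = 1 := by
      rw [← pow_mul, hc, show r * c * p ^ a = o * c by rw [← hr]; ring, pow_mul,
        ho, pow_orderOf_eq_one, one_pow]
    obtain ⟨j, -, hj⟩ := (Nat.dvd_prime_pow hp).mp (orderOf_dvd_of_pow_eq_one h1)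
    exact ⟨j, hj⟩
  · have hka : p ^ k ∣ p ^ a := by
      refine pow_dvd_pow p ((hp.pow_dvd_iff_le_factorization ho0).mp ?_)
      rw [← hg]
      exact orderOf_map_dvd f g
    rw [map_pow]
    conv_rhs => rw [← pow_one (f g)]
    exact pow_eq_pow_iff_modEq.mpr (hg ▸ he1.of_dvd hka)

end

theorem normal_of_surj {L X : Type u} [Group L] [Group X] [Finite L] [Finite X] (f : L →* X)
    (hf : Function.Surjective f) (h : ∀ Q : Sylow 2 L, (Q : Subgroup L).Normal)
    (P : Sylow 2 X) : (P : Subgroup X).Normal := by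
  obtain ⟨Q⟩ : Nonempty (Sylow 2 L) := inferInstance
  have hn : ((Q.mapSurjective hf : Sylow 2 X) : Subgroup X).Normal := by
    rw [Sylow.coe_mapSurjective]
    exact (h Q).map f hf
  haveI := Sylow.unique_of_normal _ hn
  rw [Subsingleton.elim P (Q.mapSurjective hf)]
  exact hn

/-- `(L, X)`: a `π`-subgroup `L` with image `X`. -/
theorem twoClosed_of_lifts {G Q : Type u} [Group G] [Finite G] [Group Q] [Finite Q]
    (h : PiTwoClosed π G) (f : G →* Q)
    (hl : ∀ X : Subgroup Q, PiSub π X → ∃ L : Subgroup G, PiSub π L ∧ L.map f = X) :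
    PiTwoClosed π Q := by
  intro X hX P
  obtain ⟨L, hL, rfl⟩ := hl X hX
  exact normal_of_surj (f.subgroupMap L) (f.subgroupMap_surjective L) (h L hL) P

section

variable {G : Type u} [Group G] [Finite G]

theorem twoClosed_subgroup (h : PiTwoClosed π G) (U : Subgroup G) : PiTwoClosed π ↥U := by
  intro X hX P
  have e := X.equivMapOfInjective U.subtype U.subtype_injective
  have hL : PiSub π (X.map U.subtype) := fun p hp hd => hX p hp
    (by rwa [← Nat.card_congr e.toEquiv] at hd)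
  exact normal_of_surj e.symm.toMonoidHom e.symm.surjective (h _ hL) P

theorem homog_subgroup (h : Homog π G) (U : Subgroup G) : Homog π ↥U :=
  PiHom72.hom_subgroup (π := π) h U

theorem closed_of_piGroup (h : ∀ p : ℕ, p.Prime → p ∣ Nat.card G → p ∈ π) :
    PiPrimeClosed π G := by
  refine ⟨⊥, fun x => ⟨fun hx p hp hd => ?_, fun hx => Subgroup.mem_bot.mpr ?_⟩⟩
  · rw [Subgroup.mem_bot.mp hx, orderOf_one] at hd
    exact absurd hd hp.not_dvd_one
  · exact orderOf_eq_one_iff.mp (Nat.eq_one_iff_not_exists_prime_dvd.mpr fun p hp hd =>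
      hx p hp hd (h p hp (hd.trans (orderOf_dvd_natCard x))))

theorem closed_of_comm (h : IsMulCommutative G) : PiPrimeClosed π G := by
  refine ⟨{ carrier := {x | PEl π x}
            mul_mem' := ?_
            one_mem' := ?_
            inv_mem' := ?_ }, fun x => Iff.rfl⟩
  · intro a b ha hb p hp hd
    have hc : Commute a b := h.is_comm.comm a b
    rcases hp.dvd_mul.mp (hd.trans hc.orderOf_mul_dvd_mul_orderOf) with h1 | h1
    exacts [ha p hp h1, hb p hp h1]
  · intro p hp hd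
    rw [orderOf_one] at hd
    exact absurd hd hp.not_dvd_one
  · intro a ha p hp hd
    rw [orderOf_inv] at hd
    exact ha p hp hd

theorem card_comap_mk (N : Subgroup G) [N.Normal] (X : Subgroup (G ⧸ N)) :
    Nat.card ↥(X.comap (QuotientGroup.mk' N)) = Nat.card ↥N * Nat.card ↥X := by
  exact QuotientGroup.card_preimage_mk N (X : Set (G ⧸ N))

theorem index_subgroupOf_comap (N : Subgroup G) [N.Normal] (X : Subgroup (G ⧸ N)) :
    (N.subgroupOf (X.comap (QuotientGroup.mk' N))).index = Nat.card ↥X := by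
  have hle : N ≤ X.comap (QuotientGroup.mk' N) := fun x hx => by
    rw [Subgroup.mem_comap, QuotientGroup.mk'_apply, (QuotientGroup.eq_one_iff x).mpr hx]
    exact one_mem X
  have h1 := (N.subgroupOf (X.comap (QuotientGroup.mk' N))).card_mul_index
  rw [Nat.card_congr (Subgroup.subgroupOfEquivOfLe hle).toEquiv, card_comap_mk] at h1
  exact Nat.eq_of_mul_eq_mul_left Nat.card_pos h1

/-- A complement of a normal subgroup in the preimage of a subgroup of coprime order. -/
theorem exists_lift (N : Subgroup G) [N.Normal] (X : Subgroup (G ⧸ N))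
    (hcop : (Nat.card ↥N).Coprime (Nat.card ↥X)) :
    ∃ L : Subgroup G, Nat.card ↥L = Nat.card ↥X ∧ L.map (QuotientGroup.mk' N) = X ∧
      ∀ g ∈ X.comap (QuotientGroup.mk' N), ∃ n ∈ N, ∃ l ∈ L, g = n * l := by
  set P := X.comap (QuotientGroup.mk' N) with hP
  have hle : N ≤ P := fun x hx => by
    rw [hP, Subgroup.mem_comap, QuotientGroup.mk'_apply, (QuotientGroup.eq_one_iff x).mpr hx]
    exact one_mem X
  haveI : (N.subgroupOf P).Normal := Subgroup.Normal.subgroupOf inferInstance P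
  obtain ⟨L, hL⟩ := Subgroup.exists_right_complement'_of_coprime (N := N.subgroupOf P) (by
    rw [index_subgroupOf_comap, Nat.card_congr (Subgroup.subgroupOfEquivOfLe hle).toEquiv]
    exact hcop)
  have hc : Nat.card ↥(L.map P.subtype) = Nat.card ↥X := by
    rw [Subgroup.card_map_of_injective P.subtype_injective, ← hL.symm.index_eq_card,
      index_subgroupOf_comap]
  have hdec : ∀ g ∈ P, ∃ n ∈ N, ∃ l ∈ L.map P.subtype, g = n * l := by
    intro g hg
    obtain ⟨⟨⟨n, hn⟩, ⟨l, hl⟩⟩, e⟩ := (hL.2 ⟨g, hg⟩ : _)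
    exact ⟨n, hn, l, ⟨l, hl, rfl⟩, (congrArg Subtype.val e).symm⟩
  refine ⟨L.map P.subtype, hc, le_antisymm ?_ ?_, hdec⟩
  · rintro _ ⟨_, ⟨y, -, rfl⟩, rfl⟩
    exact y.2
  · intro q hq
    obtain ⟨g, rfl⟩ := QuotientGroup.mk'_surjective N q
    obtain ⟨n, hn, l, hl, rfl⟩ := hdec g hq
    refine ⟨l, hl, ?_⟩
    simp [QuotientGroup.mk'_apply, (QuotientGroup.eq_one_iff n).mpr hn]

theorem map_ne_bot_aux {Q : Type u} [Group Q] {f : G →* Q} {L : Subgroup G} {X : Subgroup Q}
    (h : L.map f = X) (hX : X ≠ ⊥) : L ≠ ⊥ := by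
  rintro rfl
  exact hX (by rw [← h, Subgroup.map_bot])

theorem mem_centralizer_map {Q : Type u} [Group Q] {f : G →* Q} {L : Subgroup G} {g : G}
    (hg : g ∈ centralizer (L : Set G)) : f g ∈ centralizer ((L.map f : Subgroup Q) : Set Q) := by
  rintro _ ⟨l, hl, rfl⟩
  rw [← map_mul, ← map_mul, mem_centralizer_iff.mp hg l hl]

/-- The quotient by a normal subgroup whose order involves no prime of `π`. -/
theorem quotient_compl (h2 : 2 ∈ π) (htc : PiTwoClosed π G) (hh : EHom π G) (N : Subgroup G)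
    [N.Normal] (hN : PCompl π N) : PiTwoClosed π (G ⧸ N) ∧ EHom π (G ⧸ N) := by
  have hl : ∀ X : Subgroup (G ⧸ N), PiSub π X → ∃ L : Subgroup G, PiSub π L ∧
      L.map (QuotientGroup.mk' N) = X ∧ Nat.card ↥L = Nat.card ↥X ∧
        ∀ g ∈ X.comap (QuotientGroup.mk' N), ∃ n ∈ N, ∃ l ∈ L, g = n * l := by
    intro X hX
    obtain ⟨L, hc, hm, hd⟩ := exists_lift N X (coprime_of_sets hN hX)
    exact ⟨L, fun p hp hd' => hX p hp (hc ▸ hd'), hm, hc, hd⟩
  refine ⟨twoClosed_of_lifts htc (QuotientGroup.mk' N) fun X hX => ?_, ?_⟩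
  · obtain ⟨L, h1, h3, -⟩ := hl X hX
    exact ⟨L, h1, h3⟩
  intro X hX1 hX p hp hpπ q hq ⟨k, hk⟩
  obtain ⟨L, hLπ, hLm, -, hdec⟩ := hl X hX
  obtain ⟨g, rfl⟩ := QuotientGroup.mk'_surjective N q
  have hNodd : Odd (Nat.card ↥N) :=
    Nat.odd_iff.mpr (Nat.two_dvd_ne_zero.mp fun h => hN 2 Nat.prime_two h h2)
  have hA : PiHom72.cj g L ≤ N ⊔ L := by
    refine PiHom72.cj_le_iff.mpr fun a ha => ?_
    have hmem : g * a * g⁻¹ ∈ X.comap (QuotientGroup.mk' N) := by
      have haX : QuotientGroup.mk' N a ∈ X := hLm ▸ Subgroup.mem_map_of_mem _ ha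
      rw [Subgroup.mem_comap, map_mul, map_mul, map_inv]
      exact (Subgroup.mem_normalizer_iff.mp hq _).mp haX
    obtain ⟨n, hn, l, hl', e⟩ := hdec _ hmem
    rw [e]
    exact Subgroup.mul_mem_sup hn hl'
  have hnorm : ∀ S : Subgroup G, S ≤ normalizer (N : Set G) := fun S => by
    rw [Subgroup.normalizer_eq_top]
    exact le_top
  obtain ⟨m, hm, hmc⟩ := Coprime.exists_conj_le_of_le_sup (PiHom72.cj g L) N L (hnorm _) (hnorm _)
    (by rw [PiHom72.card_cj]; exact (coprime_of_sets hN hLπ).symm)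
    (Or.inr (PF14.feitThompson N hNodd)) hA
  have hh' : m * g ∈ normalizer (L : Set G) := by
    refine PiHom72.mem_normalizer_of_forall fun a ha => ?_
    have := hmc _ (PiHom72.conj_mem_cj (g := g) ha)
    simpa [mul_assoc] using this
  have hfh : QuotientGroup.mk' N (m * g) = QuotientGroup.mk' N g := by
    simp [QuotientGroup.mk'_apply, (QuotientGroup.eq_one_iff m).mpr hm]
  obtain ⟨e, hej, hee⟩ := exists_pPart (QuotientGroup.mk' N) hp (m * g) (k := k) (by rw [hfh, hk])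
  have hC := hh L (map_ne_bot_aux hLm hX1) hLπ p hp hpπ _ (pow_mem hh' e) hej
  have := mem_centralizer_map (f := QuotientGroup.mk' N) hC
  rwa [hee, hfh, hLm] at this

/-- The quotient by a central `π`-subgroup. -/
theorem quotient_central (htc : PiTwoClosed π G) (hh : EHom π G) (M : Subgroup G)
    [M.Normal] (hM : PiSub π M) : PiTwoClosed π (G ⧸ M) ∧ EHom π (G ⧸ M) := by
  have hP : ∀ X : Subgroup (G ⧸ M), PiSub π X →
      PiSub π (X.comap (QuotientGroup.mk' M)) := by
    intro X hX p hp hd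
    rw [card_comap_mk] at hd
    rcases hp.dvd_mul.mp hd with h | h
    exacts [hM p hp h, hX p hp h]
  refine ⟨twoClosed_of_lifts htc (QuotientGroup.mk' M) fun X hX => ⟨_, hP X hX, ?_⟩, ?_⟩
  · exact Subgroup.map_comap_eq_self_of_surjective (QuotientGroup.mk'_surjective M) X
  intro X hX1 hX p hp hpπ q hq ⟨k, hk⟩
  obtain ⟨g, rfl⟩ := QuotientGroup.mk'_surjective M q
  have hmap : (X.comap (QuotientGroup.mk' M)).map (QuotientGroup.mk' M) = X :=
    Subgroup.map_comap_eq_self_of_surjective (QuotientGroup.mk'_surjective M) X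
  have hg : g ∈ normalizer ((X.comap (QuotientGroup.mk' M) : Subgroup G) : Set G) := by
    refine PiHom72.mem_normalizer_of_forall fun a ha => ?_
    rw [Subgroup.mem_comap, map_mul, map_mul, map_inv]
    exact (Subgroup.mem_normalizer_iff.mp hq _).mp ha
  obtain ⟨e, hej, hee⟩ := exists_pPart (QuotientGroup.mk' M) hp g hk
  have hC := hh _ (map_ne_bot_aux hmap hX1) (hP X hX) p hp hpπ _ (pow_mem hg e) hej
  have := mem_centralizer_map (f := QuotientGroup.mk' M) hC
  rwa [hee, hmap] at this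

theorem closed_of_quotient_compl (N : Subgroup G) [N.Normal] (hN : PCompl π N)
    (h : PiPrimeClosed π (G ⧸ N)) : PiPrimeClosed π G := by
  obtain ⟨K, hK⟩ := h
  refine ⟨K.comap (QuotientGroup.mk' N), fun x => ⟨fun hx => ?_, fun hx => ?_⟩⟩
  · refine pEl_of_mem (K := K.comap (QuotientGroup.mk' N)) (fun p hp hd => ?_) hx
    rw [card_comap_mk] at hd
    rcases hp.dvd_mul.mp hd with h | h
    exacts [hN p hp h, pCompl_of_forall (fun y hy => (hK y).mp hy) p hp h]
  · exact (hK _).mpr fun p hp hd => hx p hp (hd.trans (orderOf_map_dvd _ x))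

theorem closed_of_quotient_central (M : Subgroup G) [M.Normal] (hM : PiSub π M)
    (hz : M ≤ center G) (h : PiPrimeClosed π (G ⧸ M)) : PiPrimeClosed π G := by
  obtain ⟨K, hK⟩ := h
  have hKc : PCompl π K := pCompl_of_forall fun y hy => (hK y).mp hy
  obtain ⟨L, hLc, -, hdec⟩ := exists_lift M K (coprime_of_sets hKc hM).symm
  refine ⟨L, fun x => ⟨fun hx => pEl_of_mem (fun p hp hd => hKc p hp (hLc ▸ hd)) hx,
    fun hx => ?_⟩⟩
  have hxK : x ∈ K.comap (QuotientGroup.mk' M) :=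
    (hK _).mpr fun p hp hd => hx p hp (hd.trans (orderOf_map_dvd _ x))
  obtain ⟨m, hm, l, hl, e⟩ := hdec x hxK
  have hc : Commute m l := (Subgroup.mem_center_iff.mp (hz hm) l).symm
  have hmc : m ^ Nat.card ↥M = 1 :=
    orderOf_dvd_iff_pow_eq_one.mp (Subgroup.orderOf_dvd_natCard M hm)
  have hpow : x ^ Nat.card ↥M ∈ L := by
    rw [e, hc.mul_pow, hmc, one_mul]
    exact pow_mem hl _
  obtain ⟨j, hj⟩ := exists_pow_eq_self_of_coprime (coprime_of_sets hx hM).symm
  rw [← hj]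
  exact pow_mem hpow j

theorem exists_closed_image {U : Subgroup G} (h : PiPrimeClosed π ↥U) :
    ∃ K : Subgroup G, K ≤ U ∧ ∀ x : G, x ∈ K ↔ x ∈ U ∧ PEl π x := by
  obtain ⟨K, hK⟩ := h
  refine ⟨K.map U.subtype, Subgroup.map_subtype_le _, fun x => ⟨?_, ?_⟩⟩
  · rintro ⟨y, hy, rfl⟩
    refine ⟨y.2, fun p hp hd => (hK y).mp hy p hp ?_⟩
    rwa [Subgroup.coe_subtype, Subgroup.orderOf_coe] at hd
  · rintro ⟨hxU, hx⟩
    refine ⟨⟨x, hxU⟩, (hK _).mpr fun p hp hd => hx p hp ?_, rfl⟩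
    rwa [← Subgroup.orderOf_coe] at hd

/-- A normal subgroup with closed `π'`-part gives a normal `π'`-subgroup or is a `π`-group. -/
theorem normal_cases (U : Subgroup G) [U.Normal] (h : PiPrimeClosed π ↥U) :
    (∃ N : Subgroup G, N.Normal ∧ N ≠ ⊥ ∧ PCompl π N) ∨ PiSub π U := by
  obtain ⟨K, -, hK⟩ := exists_closed_image h
  by_cases hK1 : K = ⊥
  · right
    intro p hp hd
    by_contra hpπ
    haveI : Fact p.Prime := ⟨hp⟩
    obtain ⟨x, hx⟩ := exists_prime_orderOf_dvd_card' (G := ↥U) p hd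
    rw [← Subgroup.orderOf_coe] at hx
    have : (x : G) ∈ K := (hK _).mpr ⟨x.2, pEl_of_pow (k := 1) hp hpπ (by rw [hx, pow_one])⟩
    rw [hK1, Subgroup.mem_bot] at this
    rw [this, orderOf_one] at hx
    exact hp.ne_one hx.symm
  · left
    refine ⟨K, ⟨fun x hx g => ?_⟩, hK1, pCompl_of_forall fun x hx => ((hK x).mp hx).2⟩
    obtain ⟨h1, h3⟩ := (hK x).mp hx
    exact (hK _).mpr ⟨Subgroup.Normal.conj_mem inferInstance x h1 g, conj_pEl g h3⟩

end

theorem main (h2 : 2 ∈ π) (hctx : ∀ (H : Type u) [Group H] [Finite H], Ctx π H → False) :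
    ∀ (n : ℕ) (G : Type u) [Group G] [Finite G], Nat.card G = n → PiTwoClosed π G → Homog π G →
      PiPrimeClosed π G := by
  intro n
  induction n using Nat.strong_induction_on with
  | _ n ih =>
    intro G _ _ hn htc hh
    subst hn
    have hsub : ∀ U : Subgroup G, U ≠ ⊤ → PiPrimeClosed π ↥U := fun U hU =>
      ih _ (lt_of_le_of_ne (Subgroup.card_le_card_group U)
        fun e => hU (Subgroup.eq_top_of_card_eq U e)) ↥U rfl (twoClosed_subgroup htc U)
        (homog_subgroup hh U)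
    have hquot : ∀ (N : Subgroup G) [N.Normal], N ≠ ⊥ → Nat.card (G ⧸ N) < Nat.card G := by
      intro N _ hN
      rw [N.card_eq_card_quotient_mul_card_subgroup]
      exact lt_mul_of_one_lt_right Nat.card_pos ((Subgroup.one_lt_card_iff_ne_bot N).mpr hN)
    by_cases hN : ∃ N : Subgroup G, N.Normal ∧ N ≠ ⊥ ∧ PCompl π N
    · obtain ⟨N, hNn, hN1, hNπ⟩ := hN
      obtain ⟨h3, h4⟩ := quotient_compl h2 htc (eHom_of_homog hh) N hNπ
      exact closed_of_quotient_compl N hNπ (ih _ (hquot N hN1) _ rfl h3 (homog_of_eHom h4))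
    by_cases hM : ∃ M : Subgroup G, M.Normal ∧ M ≠ ⊥ ∧ M ≠ ⊤
    · obtain ⟨M, hMn, hM1, hMt⟩ := hM
      have hMπ : PiSub π M := (normal_cases M (hsub M hMt)).resolve_left hN
      have hcen : ∀ p : ℕ, p.Prime → p ∉ π → ∀ x : G, (∃ k, orderOf x = p ^ k) →
          x ∈ centralizer (M : Set G) := fun p hp hpπ x hx =>
        eHom_of_homog hh M hM1 hMπ p hp hpπ x (by rw [Subgroup.normalizer_eq_top]; trivial) hx
      by_cases hC : centralizer (M : Set G) = ⊤
      · have hz : M ≤ center G := fun x hx => Subgroup.mem_center_iff.mpr fun g =>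
          (mem_centralizer_iff.mp (hC ▸ Subgroup.mem_top g) x hx).symm
        obtain ⟨h3, h4⟩ := quotient_central htc (eHom_of_homog hh) M hMπ
        exact closed_of_quotient_central M hMπ hz
          (ih _ (hquot M hM1) _ rfl h3 (homog_of_eHom h4))
      · have hCπ := (normal_cases (centralizer (M : Set G)) (hsub _ hC)).resolve_left hN
        refine closed_of_piGroup fun p hp hd => ?_
        by_contra hpπ
        haveI : Fact p.Prime := ⟨hp⟩
        obtain ⟨x, hx⟩ := exists_prime_orderOf_dvd_card' (G := G) p hd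
        have := mem_piSub hCπ (hcen p hp hpπ x ⟨1, by rw [hx, pow_one]⟩)
          (pEl_of_pow (k := 1) hp hpπ (by rw [hx, pow_one]))
        rw [this, orderOf_one] at hx
        exact hp.ne_one hx.symm
    by_cases hcm : IsMulCommutative G
    · exact closed_of_comm hcm
    exfalso
    haveI : Nontrivial G := by
      by_contra hnt
      haveI := not_nontrivial_iff_subsingleton.mp hnt
      exact hcm ⟨⟨fun a b => Subsingleton.elim _ _⟩⟩
    have hsimple : IsSimpleGroup G := ⟨fun M hMn => by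
      by_contra h
      push Not at h
      exact hM ⟨M, hMn, h.1, h.2⟩⟩
    refine hctx G ⟨h2, hsimple, hcm, htc, hh, fun U hU => ?_⟩
    obtain ⟨K, hKU, hK⟩ := exists_closed_image (hsub U hU)
    refine ⟨K, hKU, fun u hu => PiHom72.mem_normalizer_of_forall fun x hx => ?_,
      pCompl_of_forall fun x hx => ((hK x).mp hx).2, fun p hp hd => ?_⟩
    · exact (hK _).mpr ⟨U.mul_mem (U.mul_mem hu ((hK x).mp hx).1) (U.inv_mem hu),
        conj_pEl u ((hK x).mp hx).2⟩
    · by_contra hpπ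
      exact not_dvd_relIndex hp
        (fun x hx ⟨k, hk⟩ => (hK x).mpr ⟨hx, pEl_of_pow hp hpπ hk⟩) hd

end Red

open Red in
theorem converse : ConverseStmt.{u} := by
  intro π G _ _ ⟨K, hK⟩
  refine homog_of_eHom fun H _ hHπ p hp hpπ n hn ⟨k, hk⟩ => ?_
  refine mem_centralizer_iff.mpr fun h hh => ?_
  have hnK : n ∈ K := (hK n).mpr (pEl_of_pow hp hpπ hk)
  have hcK : ∀ g : G, ∀ x ∈ K, g * x * g⁻¹ ∈ K := fun g x hx =>
    (hK _).mpr (conj_pEl g ((hK x).mp hx))
  have h1 : n * h * n⁻¹ * h⁻¹ ∈ K := by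
    simpa [mul_assoc] using K.mul_mem hnK (hcK h _ (K.inv_mem hnK))
  have h3 : n * h * n⁻¹ * h⁻¹ ∈ H :=
    H.mul_mem ((Subgroup.mem_normalizer_iff.mp hn h).mp hh) (H.inv_mem hh)
  have h4 := mem_piSub hHπ h3 ((hK _).mp h1)
  rw [mul_inv_eq_one, mul_inv_eq_iff_eq_mul] at h4
  exact h4.symm

theorem reduce : ReduceStmt.{u} :=
  fun _ h2 hctx G _ _ htc hh => Red.main h2 hctx _ G rfl htc hh

end Cfsg.Agent.PiHom23
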