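import Cfsg.Agent.PiHom23.Defs
import Mathlib.GroupTheory.Perm.Cycle.Type
import Mathlib.GroupTheory.SpecificGroups.Cyclic
import Mathlib.GroupTheory.QuotientGroup.Basic
import Mathlib.Data.Nat.Factorization.Basic

/-!
# `U34SplitStmt`: the normalizer of a `U₃(4)`-type Sylow 2-subgroup

`core` is the abstract statement about a group `N` acting on a group `T` of order 64 whose
involutions, with `1`, form a central four-group `Z ≥ Φ(T)`, transitively on the involutions.
-/

set_option autoImplicit false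

namespace Cfsg.Agent.PiHom23.Split62

open Subgroup

universe u

/-! ## Permutations -/

theorem dvd_of_odd_of_dvd_two_pow_mul {d i k : ℕ} (hd : Odd d) (h : d ∣ 2 ^ i * k) : d ∣ k :=
  ((Nat.Coprime.pow_left i (Nat.coprime_two_left.mpr hd)).symm).dvd_of_dvd_mul_left h

/-- An element of odd order preserving a five-element set has fifteenth power fixing it. -/
theorem pow_fifteen_fix {α : Type u} [DecidableEq α] (σ : Equiv.Perm α) {m : ℕ} (hm : Odd m)
    (hσ : σ ^ m = 1) (s : Finset α) (hs : ∀ x, σ x ∈ s ↔ x ∈ s) (hc : s.card = 5) :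
    ∀ x ∈ s, (σ ^ 15) x = x := by
  intro x hx
  let σ' : Equiv.Perm {y // y ∈ s} := σ.subtypePerm hs
  have h1 : σ' ^ m = 1 := by
    ext y
    simp [σ', hσ]
  have hd : orderOf σ' ∣ 120 := by
    have h := orderOf_dvd_card (x := σ')
    rw [Fintype.card_perm, Fintype.card_coe, hc] at h
    simpa [Nat.factorial] using h
  have hodd : Odd (orderOf σ') := hm.of_dvd_nat (orderOf_dvd_of_pow_eq_one h1)
  have h15 : orderOf σ' ∣ 15 :=
    dvd_of_odd_of_dvd_two_pow_mul hodd (i := 3) (k := 15) (by simpa using hd)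
  have h2 := congrArg (fun f : Equiv.Perm {y // y ∈ s} => (f ⟨x, hx⟩ : α))
    (orderOf_dvd_iff_pow_eq_one.mp h15)
  simpa [σ'] using h2

/-- Fixed points of a permutation of prime order. -/
theorem card_filter_fix {α : Type u} [DecidableEq α] {p : ℕ} [Fact p.Prime] (σ : Equiv.Perm α)
    (hσ : σ ^ p = 1) (s : Finset α) (hs : ∀ x, σ x ∈ s ↔ x ∈ s) :
    (s.filter fun x => σ x = x).card ≡ s.card [MOD p] := by
  let σ' : Equiv.Perm {y // y ∈ s} := σ.subtypePerm hs
  have h1 : σ' ^ p ^ 1 = 1 := by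
    ext y
    simp [σ', hσ]
  have h := Equiv.Perm.card_compl_support_modEq h1
  rw [Fintype.card_coe] at h
  have hb : σ'.supportᶜ.map (Function.Embedding.subtype _) = s.filter fun x => σ x = x := by
    ext x
    constructor
    · intro hx
      rw [Finset.mem_map] at hx
      obtain ⟨y, hy, rfl⟩ := hx
      rw [Finset.mem_compl, Equiv.Perm.mem_support, not_not, Subtype.ext_iff] at hy
      exact Finset.mem_filter.mpr ⟨y.2, hy⟩
    · intro hx
      rw [Finset.mem_filter] at hx
      refine Finset.mem_map.mpr ⟨⟨x, hx.1⟩, ?_, rfl⟩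
      rw [Finset.mem_compl, Equiv.Perm.mem_support, not_not]
      exact Subtype.ext hx.2
  rw [← hb, Finset.card_map]
  exact h

/-- An automorphism of prime order `p` of a group of order `16` whose fixed point count is too
large is trivial. -/
theorem fixed_all {Q : Type u} [Group Q] [Fintype Q] [DecidableEq Q] {p : ℕ} [Fact p.Prime]
    (hp : p = 3 ∨ p = 5) (hQ : Fintype.card Q = 16) (τ : MulAut Q) (hτ : τ ^ p = 1)
    (h3 : p = 3 → 5 ≤ (Finset.univ.filter fun q : Q => τ q = q).card)
    (h5 : p = 5 → 2 ≤ (Finset.univ.filter fun q : Q => τ q = q).card) : τ = 1 := by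
  have hσ : (MulAut.toPerm Q τ) ^ p = 1 := by rw [← map_pow, hτ, map_one]
  have hmod := card_filter_fix (MulAut.toPerm Q τ) hσ Finset.univ (by simp)
  rw [Finset.card_univ, hQ] at hmod
  change (Finset.univ.filter fun q : Q => τ q = q).card ≡ 16 [MOD p] at hmod
  have hdvd : (Finset.univ.filter fun q : Q => τ q = q).card ∣ 2 ^ 4 := by
    have h := Subgroup.card_subgroup_dvd_card (τ.toMonoidHom.eqLocus (MonoidHom.id Q))
    rw [Nat.card_eq_fintype_card (α := Q), hQ] at h
    have hc : (Finset.univ.filter fun q : Q => τ q = q).card =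
        Nat.card ↥(τ.toMonoidHom.eqLocus (MonoidHom.id Q)) := by
      rw [← Fintype.card_subtype, ← Nat.card_eq_fintype_card]
      rfl
    rw [hc]
    exact h
  obtain ⟨i, hi, hc⟩ := (Nat.dvd_prime_pow Nat.prime_two).mp hdvd
  have h16 : (Finset.univ.filter fun q : Q => τ q = q).card = 16 := by
    rw [hc] at hmod h3 h5 ⊢
    rcases hp with rfl | rfl
    · have := h3 rfl
      interval_cases i <;> simp_all [Nat.ModEq]
    · have := h5 rfl
      interval_cases i <;> simp_all [Nat.ModEq]
  have hu : (Finset.univ.filter fun q : Q => τ q = q) = Finset.univ :=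
    Finset.eq_univ_of_card _ (h16.trans hQ.symm)
  ext q
  have hq : q ∈ (Finset.univ.filter fun q : Q => τ q = q) := by rw [hu]; exact Finset.mem_univ q
  simpa using hq

/-! ## The core -/

theorem core {T N : Type u} [Group T] [Finite T] [Group N] [Finite N]
    (Z : Subgroup T) [Z.Normal] (hT : Nat.card T = 64) (hZ : Nat.card ↥Z = 4)
    (hmem : ∀ x : T, x * x = 1 ↔ x ∈ Z) (hsq : ∀ x : T, x * x ∈ Z)
    (hcen : ∀ z ∈ Z, ∀ x : T, z * x = x * z) (φ : N →* MulAut T)
    (htr : ∀ a ∈ Z, a ≠ 1 → ∀ b ∈ Z, b ≠ 1 → ∃ n : N, φ n a = b)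
    (W : Subgroup N) [W.Normal] (hWodd : Odd W.index)
    (hWQ : ∀ w ∈ W, ∀ x : T, x⁻¹ * φ w x ∈ Z) (hWZ : ∀ w ∈ W, ∀ z ∈ Z, φ w z = z) :
    (∀ n : N, Odd (orderOf n) → (∀ z ∈ Z, φ n z = z) → φ n = 1) ∨
      ∃ (A : Type u) (_ : CommGroup A) (χ : N →* A) (x : N),
        (∃ k : ℕ, orderOf x = 5 ^ k) ∧ χ x ≠ 1 ∧ φ.ker ≤ χ.ker := by
  classical
  haveI : Fintype T := Fintype.ofFinite T
  haveI : Fintype (T ⧸ Z) := Fintype.ofFinite _
  -- the quotient
  have hQ : Fintype.card (T ⧸ Z) = 16 := by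
    have h := Subgroup.card_eq_card_quotient_mul_card_subgroup Z
    rw [hT, hZ, Nat.card_eq_fintype_card] at h
    omega
  -- every automorphism of `T` preserves `Z`
  have hpres : ∀ (e : MulAut T) (x : T), e x ∈ Z ↔ x ∈ Z := by
    intro e x
    rw [← hmem, ← hmem, ← map_mul]
    exact e.map_eq_one_iff
  have hmap : ∀ e : MulAut T, Z.map (e : T →* T) = Z := by
    intro e
    apply Subgroup.ext
    intro x
    constructor
    · rintro ⟨y, hy, rfl⟩
      exact (hpres e y).mpr hy
    · intro hx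
      obtain ⟨y, rfl⟩ := e.surjective x
      exact ⟨y, (hpres e y).mp hx, rfl⟩
  let autQ : MulAut T →* MulAut (T ⧸ Z) :=
    MonoidHom.mk' (fun e => QuotientGroup.congr Z Z e (hmap e)) (by
      intro a b
      ext q
      induction q using QuotientGroup.induction_on with
      | H x =>
        rw [MulAut.mul_apply, QuotientGroup.congr_mk, QuotientGroup.congr_mk,
          QuotientGroup.congr_mk]
        rfl)
  let act : N →* MulAut (T ⧸ Z) := autQ.comp φ
  have hact : ∀ (n : N) (x : T), act n (x : T ⧸ Z) = ((φ n x : T) : T ⧸ Z) := fun n x =>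
    QuotientGroup.congr_mk Z Z (φ n) (hmap _) x
  have hact_one : ∀ n : N, (∀ x : T, x⁻¹ * φ n x ∈ Z) → act n = 1 := by
    intro n hn
    ext q
    induction q using QuotientGroup.induction_on with
    | H x => rw [MulAut.one_apply, hact]; exact (QuotientGroup.eq.mpr (hn x)).symm
  have hact_one' : ∀ n : N, act n = 1 → ∀ x : T, x⁻¹ * φ n x ∈ Z := by
    intro n hn x
    have h := hact n x
    rw [hn, MulAut.one_apply] at h
    exact QuotientGroup.eq.mp h
  have hker : φ.ker ≤ act.ker := by
    intro n hn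
    rw [MonoidHom.mem_ker] at hn ⊢
    simp only [act, MonoidHom.comp_apply, hn, map_one]
  have hWact : ∀ n : N, act n ^ W.index = 1 := by
    intro n
    rw [← map_pow]
    exact hact_one _ (hWQ _ (W.pow_index_mem n))
  -- the squaring map
  let sq : T ⧸ Z → T := fun q => Quotient.liftOn' q (fun x => x * x) (by
    intro a b hab
    rw [QuotientGroup.leftRel_apply] at hab
    obtain ⟨z, hz, rfl⟩ : ∃ z ∈ Z, b = a * z := ⟨a⁻¹ * b, hab, by group⟩
    change a * a = a * z * (a * z)
    rw [show a * z * (a * z) = a * (z * a) * z by group, hcen z hz a,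
      show a * (a * z) * z = a * a * (z * z) by group, (hmem z).mpr hz, mul_one])
  have sq_mk : ∀ x : T, sq (x : T ⧸ Z) = x * x := fun x => rfl
  have sq_mem : ∀ q, sq q ∈ Z := fun q => QuotientGroup.induction_on q hsq
  have sq_one : ∀ q, sq q = 1 ↔ q = 1 := fun q => QuotientGroup.induction_on q fun x => by
    rw [sq_mk, hmem, QuotientGroup.eq_one_iff]
  have sq_act : ∀ (n : N) q, sq (act n q) = φ n (sq q) := fun n q =>
    QuotientGroup.induction_on q fun x => by rw [hact, sq_mk, sq_mk, map_mul]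
  -- the fibres
  let J : Finset T := Finset.univ.filter fun a => a ∈ Z ∧ a ≠ 1
  have hJ : J.card = 3 := by
    have h1 : J = (Finset.univ.filter fun a : T => a ∈ Z).erase 1 := by
      ext a; simp [J, and_comm]
    have h2 : (Finset.univ.filter fun a : T => a ∈ Z).card = 4 := by
      rw [← Fintype.card_subtype, ← Nat.card_eq_fintype_card]; exact hZ
    rw [h1, Finset.card_erase_of_mem (by simp), h2]
  have hJmem : ∀ a, a ∈ J ↔ a ∈ Z ∧ a ≠ 1 := fun a => by simp [J]
  have hcount : ∀ s : Finset (T ⧸ Z), (1 : T ⧸ Z) ∈ s →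
      s.card = 1 + ∑ a ∈ J, (s.filter fun q => sq q = a).card := by
    intro s h1
    have h2 := Finset.card_eq_sum_card_fiberwise (f := sq) (s := s.erase 1) (t := J) (by
      intro q hq
      rw [Finset.mem_coe, Finset.mem_erase] at hq
      exact Finset.mem_coe.mpr ((hJmem _).mpr ⟨sq_mem q, fun h => hq.1 ((sq_one q).mp h)⟩))
    have h3 : ∀ a ∈ J, ((s.erase 1).filter fun q => sq q = a) = s.filter fun q => sq q = a := by
      intro a ha
      ext q
      simp only [Finset.mem_filter, Finset.mem_erase]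
      refine ⟨fun h => ⟨h.1.2, h.2⟩, fun h => ⟨⟨?_, h.1⟩, h.2⟩⟩
      intro hq
      exact ((hJmem a).mp ha).2 (by rw [← h.2, hq]; exact (sq_one 1).mpr rfl)
    rw [Finset.sum_congr rfl fun a ha => congrArg Finset.card (h3 a ha)] at h2
    rw [← h2, Finset.card_erase_of_mem h1]
    have := Finset.card_pos.mpr ⟨1, h1⟩
    omega
  let fib : T → Finset (T ⧸ Z) := fun a => Finset.univ.filter fun q => sq q = a
  have hfib : ∀ q a, q ∈ fib a ↔ sq q = a := fun q a => by simp [fib]
  have hfib_eq : ∀ a ∈ J, ∀ b ∈ J, (fib a).card = (fib b).card := by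
    intro a ha b hb
    obtain ⟨n, hn⟩ := htr a ((hJmem a).mp ha).1 ((hJmem a).mp ha).2 b ((hJmem b).mp hb).1
      ((hJmem b).mp hb).2
    refine Finset.card_equiv (act n).toEquiv fun q => ?_
    rw [hfib, hfib, MulEquiv.toEquiv_eq_coe, EquivLike.coe_coe, sq_act, ← hn]
    exact (φ n).injective.eq_iff.symm
  have hfib5 : ∀ a ∈ J, (fib a).card = 5 := by
    intro a ha
    have h := hcount Finset.univ (Finset.mem_univ _)
    rw [Finset.card_univ, hQ] at h
    change 16 = 1 + ∑ b ∈ J, (fib b).card at h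
    rw [Finset.sum_congr rfl fun b hb => hfib_eq b hb a ha, Finset.sum_const, hJ,
      smul_eq_mul] at h
    omega
  -- the action on the involutions
  have hJinv : ∀ (e : MulAut T) (a : T), e a ∈ J ↔ a ∈ J := by
    intro e a
    rw [hJmem, hJmem, hpres, Ne, e.map_eq_one_iff]
  let f : N →* Equiv.Perm {a // a ∈ J} :=
    MonoidHom.mk' (fun n => (MulAut.toPerm T (φ n)).subtypePerm (hJinv (φ n))) (by
      intro a b
      ext x
      change φ (a * b) x.1 = φ a (φ b x.1)
      rw [map_mul]
      rfl)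
  have hf : ∀ n : N, n ∈ f.ker ↔ ∀ z ∈ Z, φ n z = z := by
    intro n
    rw [MonoidHom.mem_ker]
    constructor
    · intro hn z hz
      rcases eq_or_ne z 1 with rfl | h1
      · exact map_one _
      · exact congrArg Subtype.val (DFunLike.congr_fun hn ⟨z, (hJmem z).mpr ⟨hz, h1⟩⟩)
    · intro hn
      ext x
      exact hn x.1 ((hJmem _).mp x.2).1
  have hkerfib : ∀ n ∈ f.ker, ∀ q, sq (act n q) = sq q := fun n hn q => by
    rw [sq_act]; exact (hf n).mp hn _ (sq_mem q)
  have hWf : W ≤ f.ker := fun w hw => (hf w).mpr (hWZ w hw)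
  have hrange : Nat.card f.range ∣ 3 := by
    have h1 : Nat.card f.range ∣ W.index := by
      rw [← Subgroup.index_ker]; exact Subgroup.index_dvd_of_le hWf
    have h2 : Nat.card f.range ∣ 2 ^ 1 * 3 := by
      have h := Subgroup.card_subgroup_dvd_card f.range
      rwa [Nat.card_perm, Nat.card_eq_fintype_card (α := {a // a ∈ J}), Fintype.card_coe, hJ] at h
    exact dvd_of_odd_of_dvd_two_pow_mul (hWodd.of_dvd_nat h1) h2
  -- fifth powers on the kernel
  have hfive : ∀ n ∈ f.ker, act n ^ 5 = 1 := by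
    intro n hn
    have h15 : (MulAut.toPerm (T ⧸ Z) (act n)) ^ 15 = 1 := by
      ext q
      rcases eq_or_ne q 1 with rfl | hq
      · rw [← map_pow, Equiv.Perm.one_apply]
        exact map_one (act n ^ 15)
      · exact pow_fifteen_fix (MulAut.toPerm (T ⧸ Z) (act n)) hWodd
          (by rw [← map_pow, hWact, map_one]) (fib (sq q))
          (fun x => by
            rw [hfib, hfib]
            change sq (act n x) = _ ↔ _
            rw [hkerfib n hn])
          (hfib5 _ ((hJmem _).mpr ⟨sq_mem q, fun h => hq ((sq_one q).mp h)⟩))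
          q ((hfib _ _).mpr rfl)
    have hact15 : (act n ^ 5) ^ 3 = 1 := by
      rw [← pow_mul]
      apply MulEquiv.ext
      intro q
      have h := DFunLike.congr_fun h15 q
      rw [← map_pow] at h
      exact h
    haveI : Fact (Nat.Prime 3) := ⟨by norm_num⟩
    refine fixed_all (Or.inl rfl) hQ _ hact15 (fun _ => ?_) (fun h => absurd h (by norm_num))
    rw [hcount _ (by simp)]
    have hσ : (MulAut.toPerm (T ⧸ Z) (act n ^ 5)) ^ 3 = 1 := by rw [← map_pow, hact15, map_one]
    have h2 : ∀ a ∈ J, 2 ≤ ((Finset.univ.filter fun q => (act n ^ 5) q = q).filter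
        fun q => sq q = a).card := by
      intro a ha
      have hm := card_filter_fix (MulAut.toPerm (T ⧸ Z) (act n ^ 5)) hσ (fib a) (fun x => by
        rw [hfib, hfib]
        change sq ((act n ^ 5) x) = _ ↔ _
        rw [← map_pow, hkerfib _ (pow_mem hn 5)])
      rw [hfib5 a ha] at hm
      have he : ((fib a).filter fun q => MulAut.toPerm (T ⧸ Z) (act n ^ 5) q = q) =
          (Finset.univ.filter fun q => (act n ^ 5) q = q).filter fun q => sq q = a := by
        simp only [fib, Finset.filter_filter]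
        exact Finset.filter_congr fun q _ => and_comm
      rw [he] at hm
      unfold Nat.ModEq at hm
      omega
    have h3 := Finset.card_nsmul_le_sum J _ 2 h2
    rw [hJ, smul_eq_mul] at h3
    omega
  have hsemi : ∀ n ∈ f.ker, ∀ q, q ≠ 1 → act n q = q → act n = 1 := by
    intro n hn q hq hnq
    haveI : Fact (Nat.Prime 5) := ⟨by norm_num⟩
    refine fixed_all (Or.inr rfl) hQ _ (hfive n hn) (fun h => absurd h (by norm_num)) (fun _ => ?_)
    exact Finset.one_lt_card.mpr ⟨1, by simp, q, by simp [hnq], hq.symm⟩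
  by_cases hno : ∀ n : N, Odd (orderOf n) → (∀ z ∈ Z, φ n z = z) → act n = 1
  · left
    intro n hodd hn
    have h1 := hact_one' n (hno n hodd hn)
    apply MulEquiv.ext
    intro x
    obtain ⟨c, hc, hx⟩ : ∃ c ∈ Z, φ n x = x * c := ⟨_, h1 x, by group⟩
    have hk : ∀ k : ℕ, (φ n ^ k) x = x * c ^ k := by
      intro k
      induction k with
      | zero => simp
      | succ k ih =>
        rw [pow_succ', MulAut.mul_apply, ih, map_mul, map_pow, hx, hn c hc, pow_succ', mul_assoc]
    have h2 := hk (orderOf n)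
    rw [← map_pow, pow_orderOf_eq_one, map_one, MulAut.one_apply] at h2
    have hc1 : c ^ orderOf n = 1 := mul_eq_left.mp h2.symm
    obtain ⟨j, hj⟩ := hodd
    rw [hj, pow_succ, pow_mul, pow_two, (hmem c).mpr hc, one_pow, one_mul] at hc1
    rw [hx, hc1, mul_one, MulAut.one_apply]
  · right
    push Not at hno
    obtain ⟨n₀, hodd, hn₀Z, hne⟩ := hno
    have hn₀ : n₀ ∈ f.ker := (hf n₀).mpr hn₀Z
    haveI : Fact (Nat.Prime 5) := ⟨by norm_num⟩
    have hord : orderOf (act n₀) = 5 := orderOf_eq_prime (hfive n₀ hn₀) hne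
    -- a point
    obtain ⟨a, ha⟩ := Finset.card_pos.mp (show 0 < J.card by omega)
    obtain ⟨q₀, hq₀⟩ := Finset.card_pos.mp (show 0 < (fib a).card by rw [hfib5 a ha]; norm_num)
    have hq₀1 : q₀ ≠ 1 := fun h => ((hJmem a).mp ha).2 (by
      rw [← (hfib _ _).mp hq₀, h]; exact (sq_one 1).mpr rfl)
    have hzero : ∀ n ∈ f.ker, ∃ j < 5, act n = act n₀ ^ j := by
      intro n hn
      have hinj : Set.InjOn (fun i => (act n₀ ^ i) q₀) (Finset.range 5 : Set ℕ) := by
        intro i hi j hj hij
        rw [Finset.coe_range, Set.mem_Iio] at hi hj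
        have h1 : act ((n₀ ^ i)⁻¹ * n₀ ^ j) = 1 := by
          refine hsemi _ (mul_mem (inv_mem (pow_mem hn₀ i)) (pow_mem hn₀ j)) q₀ hq₀1 ?_
          rw [map_mul, map_inv, map_pow, map_pow, MulAut.mul_apply]
          dsimp only at hij
          rw [← hij]
          exact MulAut.inv_apply_self _ _ _
        rw [map_mul, map_inv, map_pow, map_pow, inv_mul_eq_one, pow_inj_mod, hord,
          Nat.mod_eq_of_lt hi, Nat.mod_eq_of_lt hj] at h1
        exact h1
      have himg : (Finset.range 5).image (fun i => (act n₀ ^ i) q₀) = fib a := by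
        refine Finset.eq_of_subset_of_card_le ?_ ?_
        · intro q hq
          rw [Finset.mem_image] at hq
          obtain ⟨i, -, rfl⟩ := hq
          rw [hfib, ← map_pow, hkerfib _ (pow_mem hn₀ i)]
          exact (hfib _ _).mp hq₀
        · rw [Finset.card_image_of_injOn hinj, Finset.card_range, hfib5 a ha]
      have hnq : act n q₀ ∈ fib a := by
        rw [hfib, hkerfib _ hn]; exact (hfib _ _).mp hq₀
      rw [← himg, Finset.mem_image] at hnq
      obtain ⟨j, hj, hjq⟩ := hnq
      refine ⟨j, Finset.mem_range.mp hj, ?_⟩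
      have h1 : act ((n₀ ^ j)⁻¹ * n) = 1 := by
        refine hsemi _ (mul_mem (inv_mem (pow_mem hn₀ j)) hn) q₀ hq₀1 ?_
        rw [map_mul, map_inv, map_pow, MulAut.mul_apply, ← hjq]
        exact MulAut.inv_apply_self _ _ _
      rw [map_mul, map_inv, map_pow, inv_mul_eq_one] at h1
      exact h1.symm
    have hcube : ∀ m : N, m ^ 3 ∈ f.ker := by
      intro m
      rw [MonoidHom.mem_ker, map_pow]
      have h := orderOf_dvd_natCard (⟨f m, m, rfl⟩ : f.range)
      rw [← Subgroup.orderOf_coe] at h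
      exact orderOf_dvd_iff_pow_eq_one.mp (h.trans hrange)
    have hcomm₀ : ∀ m : N, Commute (act m) (act n₀) := by
      intro m
      obtain ⟨j, hj5, hj⟩ := hzero (m * n₀ * m⁻¹) (f.normal_ker.conj_mem n₀ hn₀ m)
      rw [map_mul, map_mul, map_inv] at hj
      obtain ⟨i, -, hi⟩ := hzero (m ^ 3) (hcube m)
      rw [map_pow] at hi
      have key : ∀ k : ℕ, act m * act n₀ ^ k * (act m)⁻¹ = act n₀ ^ (j * k) := by
        intro k
        rw [pow_mul, ← hj, conj_pow]
      have h3 : act m ^ 3 * act n₀ * (act m ^ 3)⁻¹ = act n₀ ^ (j * (j * j)) := by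
        rw [← key (j * j), ← key j, ← hj, pow_three]
        group
      rw [hi, ← pow_succ, pow_succ', mul_inv_cancel_right] at h3
      have h4 : act n₀ ^ 1 = act n₀ ^ (j * (j * j)) := by rw [pow_one]; exact h3
      rw [pow_inj_mod, hord] at h4
      have hj1 : j = 1 := by interval_cases j <;> omega
      rw [hj1, pow_one, mul_inv_eq_iff_eq_mul] at hj
      exact hj
    haveI : Fact (Nat.Prime 3) := ⟨by norm_num⟩
    haveI : IsCyclic f.range := isCyclic_of_card_dvd_prime hrange
    obtain ⟨⟨gp, g, rfl⟩, hgen⟩ := IsCyclic.exists_generator (α := f.range)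
    have hdec : ∀ m : N, ∃ (i : ℤ) (j : ℕ), act m = act g ^ i * act n₀ ^ j := by
      intro m
      obtain ⟨i, hi⟩ := Subgroup.mem_zpowers_iff.mp (hgen ⟨f m, m, rfl⟩)
      have hi' : f g ^ i = f m := by simpa using congrArg Subtype.val hi
      obtain ⟨j, -, hj⟩ := hzero ((g ^ i)⁻¹ * m) (by
        rw [MonoidHom.mem_ker, map_mul, map_inv, map_zpow, hi', inv_mul_cancel])
      refine ⟨i, j, ?_⟩
      rw [← hj, map_mul, map_inv, map_zpow, mul_inv_cancel_left]
    have hcomm : ∀ x y : N, Commute (act x) (act y) := by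
      intro x y
      obtain ⟨i, j, hx⟩ := hdec x
      obtain ⟨i', j', hy⟩ := hdec y
      rw [hx, hy]
      have hgn : Commute (act g) (act n₀) := hcomm₀ g
      exact ((((Commute.refl (act g)).zpow_zpow i i').mul_right
        ((hgn.pow_right j').zpow_left i))).mul_left
        (((hgn.symm.zpow_right i').pow_left j).mul_right (((Commute.refl _).pow_pow j j')))
    letI : CommGroup act.range :=
      { (inferInstance : Group act.range) with
        mul_comm := by
          rintro ⟨_, x, rfl⟩ ⟨_, y, rfl⟩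
          exact Subtype.ext (hcomm x y) }
    -- a 5-element
    obtain ⟨k, m, hm5, hkm⟩ :=
      Nat.exists_eq_pow_mul_and_not_dvd (orderOf_pos n₀).ne' 5 (by norm_num)
    refine ⟨act.range, inferInstance, act.rangeRestrict, n₀ ^ m, ?_, ?_, ?_⟩
    · have h : orderOf (n₀ ^ m) ∣ 5 ^ k := by
        apply orderOf_dvd_of_pow_eq_one
        rw [← pow_mul, mul_comm, ← hkm, pow_orderOf_eq_one]
      obtain ⟨i, -, hi⟩ := (Nat.dvd_prime_pow (by norm_num)).mp h
      exact ⟨i, hi⟩
    · intro h
      have h' : act n₀ ^ m = 1 := by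
        rw [← map_pow]; exact congrArg Subtype.val h
      exact hm5 (hord ▸ orderOf_dvd_of_pow_eq_one h')
    · rw [MonoidHom.ker_rangeRestrict]
      exact hker

/-! ## Extending a character along `U = K * M` -/

theorem extend {G A : Type u} [Group G] [CommGroup A] (U K M : Subgroup G) (hKU : K ≤ U)
    (hU : U ≤ normalizer (K : Set G)) (hMU : M ≤ U)
    (hdec : ∀ u ∈ U, ∃ k ∈ K, ∃ n ∈ M, u = k * n) (χ₀ : ↥M →* A)
    (h0 : ∀ m : ↥M, (m : G) ∈ K → χ₀ m = 1) :
    ∃ χ : ↥U →* A, ∀ m : ↥M, χ ⟨m, hMU m.2⟩ = χ₀ m := by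
  choose k hk n hn hkn using fun u : ↥U => hdec u u.2
  have huniq : ∀ (a b : G), a ∈ K → b ∈ K → ∀ x y : ↥M, a * (x : G) = b * (y : G) →
      χ₀ x = χ₀ y := by
    intro a b ha hb x y h
    have h1 : ((x * y⁻¹ : ↥M) : G) ∈ K := by
      have h2 : (x : G) * (y : G)⁻¹ = a⁻¹ * b :=
        calc (x : G) * (y : G)⁻¹ = a⁻¹ * (a * x) * (y : G)⁻¹ := by group
          _ = a⁻¹ * (b * y) * (y : G)⁻¹ := by rw [h]
          _ = a⁻¹ * b := by group
      rw [Subgroup.coe_mul, Subgroup.coe_inv, h2]
      exact mul_mem (inv_mem ha) hb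
    have h3 := h0 _ h1
    rw [map_mul, map_inv, mul_inv_eq_one] at h3
    exact h3
  let χ : ↥U →* A := MonoidHom.mk' (fun u => χ₀ ⟨n u, hn u⟩) (by
    intro u v
    rw [← map_mul]
    refine huniq (k (u * v)) (k u * (n u * k v * (n u)⁻¹)) (hk _)
      (mul_mem (hk u) ((Subgroup.mem_normalizer_iff.mp (hU (hMU (hn u))) _).mp (hk v)))
      _ _ ?_
    rw [← hkn, Subgroup.coe_mul, Subgroup.coe_mul, hkn u, hkn v]
    group)
  refine ⟨χ, fun m => ?_⟩
  change χ₀ ⟨n _, hn _⟩ = χ₀ m
  refine huniq (k ⟨m, hMU m.2⟩) 1 (hk _) (one_mem K) _ _ ?_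
  rw [one_mul]
  exact (hkn _).symm

end Cfsg.Agent.PiHom23.Split62

namespace Cfsg.Agent.PiHom23

open Subgroup

universe u

/-- The splitting statement. -/
theorem u34Split : U34SplitStmt.{u} := by
  intro π G _ _ hctx hloc S E hU
  set T : Subgroup G := (S : Subgroup G) with hTdef
  have hEle : E ≤ T := hU.le
  have hEnorm : T ≤ normalizer (E : Set G) := by
    intro s hs
    rw [Subgroup.mem_normalizer_iff]
    intro e
    constructor
    · intro he
      rw [← hU.central e he s hs, mul_inv_cancel_right]; exact he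
    · intro he
      have h := hU.central _ he s hs
      have : s * e * s⁻¹ = e := by
        have h2 : s * e = s * (s * e * s⁻¹) := by rw [← h]; group
        exact (mul_left_cancel h2).symm
      rwa [this] at he
  haveI : (E.subgroupOf T).Normal := (Subgroup.normal_subgroupOf_iff_le_normalizer hEle).mpr hEnorm
  let φ : ↥(normalizer (T : Set G)) →* MulAut ↥T := T.normalizerMonoidHom
  have hφ : ∀ (n : ↥(normalizer (T : Set G))) (x : ↥T),
      ((φ n x : ↥T) : G) = (n : G) * x * (n : G)⁻¹ := fun n x => rfl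
  have hindex : Odd (T.subgroupOf (normalizer (T : Set G))).index := by
    rw [Nat.odd_iff, ← Nat.two_dvd_ne_zero]
    intro h
    have h2 : T.relIndex (normalizer (T : Set G)) ∣ T.index :=
      ⟨_, (Subgroup.relIndex_mul_index Subgroup.le_normalizer).symm⟩
    exact S.not_dvd_index (h.trans h2)
  have hcard : Nat.card ↥(E.subgroupOf T) = 4 := by
    rw [Nat.card_congr (Subgroup.subgroupOfEquivOfLe hEle).toEquiv]; exact hU.card_E
  rcases Split62.core (E.subgroupOf T) hU.card_S hcard
    (fun x => by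
      rw [Subgroup.mem_subgroupOf, ← hU.mem_iff x x.2]
      exact ⟨fun h => congrArg Subtype.val h, fun h => Subtype.ext h⟩)
    (fun x => hU.sq_mem x x.2)
    (fun z hz x => Subtype.ext (hU.central z (Subgroup.mem_subgroupOf.mp hz) x x.2))
    φ
    (fun a ha ha1 b hb hb1 => by
      obtain ⟨n, hn, hnab⟩ := hU.trans a ha (fun h => ha1 (Subtype.ext h)) b hb
        (fun h => hb1 (Subtype.ext h))
      exact ⟨⟨n, hn⟩, Subtype.ext hnab⟩)
    (T.subgroupOf (normalizer (T : Set G))) hindex
    (fun w hw x => by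
      rw [Subgroup.mem_subgroupOf, Subgroup.coe_mul, Subgroup.coe_inv, hφ]
      have h := hU.comm_mem _ (inv_mem x.2) _ (Subgroup.mem_subgroupOf.mp hw)
      rw [inv_inv] at h
      simpa [mul_assoc] using h)
    (fun w hw z hz => Subtype.ext (by
      rw [hφ, ← hU.central (z : G) hz (w : G) (Subgroup.mem_subgroupOf.mp hw),
        mul_inv_cancel_right]))
    with hleft | ⟨A, hA, χ₀, x, ⟨k, hxk⟩, hx1, hker⟩
  · left
    intro n hn hnE hodd
    have h := hleft ⟨n, hn⟩ (by rwa [Subgroup.orderOf_mk]) (fun z hz => Subtype.ext (by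
      rw [hφ]
      change n * (z : G) * n⁻¹ = z
      rw [← Subgroup.mem_centralizer_iff.mp hnE (z : G) hz, mul_inv_cancel_right]))
    rw [Subgroup.mem_centralizer_iff]
    intro y hy
    have h2 := congrArg (fun e : MulAut ↥T => ((e ⟨y, hy⟩ : ↥T) : G)) h
    simp only [hφ, MulAut.one_apply] at h2
    exact (mul_inv_eq_iff_eq_mul.mp h2).symm
  · right
    have hTne : T ≠ ⊥ := by
      intro h
      have := hU.card_S
      rw [← hTdef, h, Subgroup.card_bot] at this
      norm_num at this
    -- five lies in `π`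
    have hphi : φ x ≠ 1 := fun h => hx1 (hker (MonoidHom.mem_ker.mpr h))
    refine ⟨?_, ?_⟩
    · refine hctx.homog T hTne ?_ 5 (by norm_num) ?_
      · intro p hp hdvd
        have h64 : p ∣ 2 ^ 6 := by rw [hU.card_S] at hdvd; simpa using hdvd
        rw [(Nat.prime_dvd_prime_iff_eq hp Nat.prime_two).mp (hp.dvd_of_dvd_pow h64)]
        exact hctx.two_mem
      · have h1 : orderOf (φ x) ∣ 5 ^ k := hxk ▸ orderOf_map_dvd φ x
        obtain ⟨i, -, hi⟩ := (Nat.dvd_prime_pow (by norm_num)).mp h1
        have hi0 : i ≠ 0 := by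
          rintro rfl
          exact hphi (orderOf_eq_one_iff.mp (by simpa using hi))
        have h2 : Nat.card φ.range = (centralizer (T : Set G)).relIndex (normalizer (T : Set G)) := by
          rw [← Subgroup.index_ker φ, Subgroup.normalizerMonoidHom_ker]; rfl
        rw [← h2]
        have h3 := orderOf_dvd_natCard (⟨φ x, x, rfl⟩ : φ.range)
        rw [← Subgroup.orderOf_coe] at h3
        exact (dvd_pow_self 5 hi0).trans (hi ▸ h3)
    -- the character of `N(E)`
    have hEbot : E ≠ ⊥ := by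
      intro h
      have := hU.card_E
      rw [h, Subgroup.card_bot] at this
      norm_num at this
    have hEtop : E ≠ ⊤ := by
      intro h
      have h1 : T ≤ E := h ▸ le_top
      have h2 := Subgroup.card_le_of_le h1
      rw [hU.card_S, hU.card_E] at h2
      omega
    have hNN : normalizer (T : Set G) ≤ normalizer (E : Set G) := by
      intro n hn
      rw [Subgroup.mem_normalizer_iff]
      intro e
      have hT' := Subgroup.mem_normalizer_iff.mp hn e
      have hsq : n * e * n⁻¹ * (n * e * n⁻¹) = 1 ↔ e * e = 1 := by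
        rw [show n * e * n⁻¹ * (n * e * n⁻¹) = n * (e * e) * n⁻¹ by group, conj_eq_one_iff]
      exact ⟨fun he => (hU.mem_iff _ (hT'.mp (hEle he))).mp
          (hsq.mpr ((hU.mem_iff e (hEle he)).mpr he)),
        fun he => (hU.mem_iff e (hT'.mpr (hEle he))).mp
          (hsq.mp ((hU.mem_iff _ (hEle he)).mpr he))⟩
    have hSyl : SylowIn 2 T (normalizer (E : Set G)) :=
      ⟨hEnorm, S.isPGroup', fun h => S.not_dvd_index
        (h.trans ⟨_, (Subgroup.relIndex_mul_index hEnorm).symm⟩)⟩
    obtain ⟨K, hKU, hKn, hKodd, hdec⟩ := hloc.layer _ (hloc.normNe E hEbot hEtop) T hSyl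
    obtain ⟨χ, hχ⟩ := Split62.extend (normalizer (E : Set G)) K (normalizer (T : Set G)) hKU hKn
      hNN (fun u hu => by
        obtain ⟨a, ha, n, -, hn, h⟩ := hdec u hu
        exact ⟨a, ha, n, hn, h⟩)
      χ₀ (fun m hm => hker (MonoidHom.mem_ker.mpr (by
        apply MulEquiv.ext
        intro y
        apply Subtype.ext
        rw [MulAut.one_apply, hφ]
        have h1 : (m : G) * y * (m : G)⁻¹ * (y : G)⁻¹ ∈ T :=
          mul_mem ((Subgroup.mem_normalizer_iff.mp m.2 _).mp y.2) (inv_mem y.2)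
        have h2 : (m : G) * y * (m : G)⁻¹ * (y : G)⁻¹ ∈ K := by
          rw [show (m : G) * y * (m : G)⁻¹ * (y : G)⁻¹ =
            (m : G) * ((y : G) * (m : G)⁻¹ * (y : G)⁻¹) by group]
          exact mul_mem hm ((Subgroup.mem_normalizer_iff.mp (hKn (hEnorm y.2)) _).mp (inv_mem hm))
        have h3 : T ⊓ K = ⊥ := disjoint_iff.mp (Subgroup.disjoint_of_coprime_natCard (by
          rw [hU.card_S, show (64 : ℕ) = 2 ^ 6 by norm_num]
          exact Nat.Coprime.pow_left 6 (Nat.coprime_two_left.mpr hKodd)))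
        have h4 : (m : G) * y * (m : G)⁻¹ * (y : G)⁻¹ = 1 := by
          have := Subgroup.mem_inf.mpr ⟨h1, h2⟩
          rwa [h3, Subgroup.mem_bot] at this
        exact mul_inv_eq_one.mp h4)))
    refine ⟨A, hA, χ, ⟨x, hNN x.2⟩, ⟨k, ?_⟩, ?_⟩
    · rw [Subgroup.orderOf_mk, Subgroup.orderOf_coe]; exact hxk
    · rw [hχ]; exact hx1

end Cfsg.Agent.PiHom23
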