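import Cfsg.Agent.PiHom23.Defs
import Cfsg.Agent.S3297
import Cfsg.Agent.CNCit80.SzGraph
import Cfsg.Agent.FG42b.TIHall
import Cfsg.Agent.OddLocal44.Stability
import Cfsg.Agent.Lib.Thompson.Cores
import Mathlib.GroupTheory.SchurZassenhaus

/-!
# `U34SuzukiStmt`: centralisers of involutions are 2-nilpotent, so the group is a Suzuki group
-/

set_option autoImplicit false
set_option linter.style.haveILetI false

namespace Cfsg.Agent.PiHom23

open Subgroup

universe u

namespace U34Suzuki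

variable {G : Type u} [Group G] [Finite G]

/-- An element of odd order normalising a four-group and fixing one involution centralises it. -/
theorem fixes_klein {E : Subgroup G} (hE : Nat.card ↥E = 4) {n a : G} (hn : Odd (orderOf n))
    (hnE : ∀ e ∈ E, n * e * n⁻¹ ∈ E) (ha : a ∈ E) (ha1 : a ≠ 1) (hfix : n * a = a * n) :
    n ∈ centralizer (E : Set G) := by
  classical
  set X : Set G := (E : Set G) \ {1, a} with hX
  have hX2 : X.ncard = 2 := by
    have hsub : ({1, a} : Set G) ⊆ (E : Set G) := Set.pair_subset (one_mem E) ha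
    rw [hX, Set.ncard_sdiff hsub (Set.toFinite _), Set.ncard_pair (Ne.symm ha1),
      ← Nat.card_coe_set_eq]
    show Nat.card ↥E - 2 = 2
    rw [hE]
  obtain ⟨b, c, hbc, hXe⟩ := Set.ncard_eq_two.mp hX2
  have hf : ∀ x ∈ X, n * x * n⁻¹ ∈ X := by
    rintro x ⟨hxE, hx⟩
    refine ⟨hnE x hxE, fun h => hx ?_⟩
    rcases h with h | h
    · exact Or.inl (conj_eq_one_iff.mp h)
    · exact Or.inr ((MulAut.conj n).injective (by
        rw [MulAut.conj_apply, MulAut.conj_apply, hfix, mul_inv_cancel_right]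
        exact h))
  have h2 : ∀ x ∈ X, Commute (n ^ 2) x := by
    intro x hx
    refine mul_inv_eq_iff_eq_mul.mp ?_
    rw [show n ^ 2 * x * (n ^ 2)⁻¹ = n * (n * x * n⁻¹) * n⁻¹ by rw [pow_two]; group]
    have key : ∀ y z : G, y ≠ z → (∀ w ∈ X, w = y ∨ w = z) → y ∈ X →
        n * (n * y * n⁻¹) * n⁻¹ = y := by
      intro y z hyz hall hy
      rcases hall _ (hf y hy) with h | h
      · rw [h, h]
      · rw [h]
        rcases hall _ (hf z (h ▸ hf y hy)) with h' | h'
        · exact h'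
        · exact absurd ((MulAut.conj n).injective (by simpa using h.trans h'.symm)) hyz
    have hall : ∀ w ∈ X, w = b ∨ w = c := fun w hw => by
      have : w ∈ ({b, c} : Set G) := hXe ▸ hw
      simpa using this
    rcases hall x hx with rfl | rfl
    · exact key x c hbc hall hx
    · exact key x b hbc.symm (fun w hw => (hall w hw).symm) hx
  obtain ⟨j, hj⟩ := hn
  have hnn : n = (n ^ 2) ^ (j + 1) := by
    rw [← pow_mul, show 2 * (j + 1) = orderOf n + 1 by omega, pow_succ, pow_orderOf_eq_one, one_mul]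
  refine mem_centralizer_iff.mpr fun x hx => ?_
  by_cases h : x = 1 ∨ x = a
  · rcases h with rfl | rfl
    · rw [one_mul, mul_one]
    · exact hfix.symm
  · rw [hnn]
    exact ((h2 x ⟨hx, h⟩).pow_left _).eq.symm

omit [Finite G] in
theorem odd_card_sup (A B : Subgroup G) [A.Normal] (hA : Odd (Nat.card ↥A))
    (hB : Odd (Nat.card ↥B)) : Odd (Nat.card ↥(A ⊔ B)) := by
  have h1 : A.relIndex (A ⊔ B) = A.relIndex B := relIndex_sup_left B A
  have h2 : A.relIndex B ∣ Nat.card ↥B := relIndex_dvd_card A B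
  have h3 : A.relIndex (A ⊔ B) * Nat.card ↥A = Nat.card ↥(A ⊔ B) := by
    rw [relIndex, ← Nat.card_congr (subgroupOfEquivOfLe (le_sup_left : A ≤ A ⊔ B)).toEquiv]
    exact (A.subgroupOf (A ⊔ B)).index_mul_card
  rw [← h3, h1]
  exact (hB.of_dvd_nat h2).mul hA

/-- A normal subgroup of odd order with the odd part of `N(T)` centralising the Sylow 2-subgroup
`T` gives a normal 2-complement. -/
theorem hasNormalPComplement (T : Sylow 2 G) (K : Subgroup G) [K.Normal] (hK : Odd (Nat.card ↥K))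
    (hdec : ∀ u : G, ∃ k ∈ K, ∃ n ∈ normalizer ((T : Subgroup G) : Set G), u = k * n)
    (hodd : ∀ n ∈ normalizer ((T : Subgroup G) : Set G), Odd (orderOf n) →
      n ∈ centralizer ((T : Subgroup G) : Set G)) :
    Cfsg.HasNormalPComplement 2 G := by
  classical
  set X := normalizer ((T : Subgroup G) : Set G) with hX
  have hTX : (T : Subgroup G) ≤ X := le_normalizer
  set T' := (T : Subgroup G).subgroupOf X with hT'
  haveI : T'.Normal := (normal_subgroupOf_iff_le_normalizer hTX).mpr le_rfl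
  obtain ⟨a, ha⟩ := IsPGroup.iff_card.mp T.isPGroup'
  have hT'c : Nat.card ↥T' = 2 ^ a := by
    rw [← ha]; exact Nat.card_congr (subgroupOfEquivOfLe hTX).toEquiv
  have hT'i : Odd T'.index := by
    refine Nat.not_even_iff_odd.mp fun h => T.not_dvd_index ?_
    rw [← relIndex_mul_index hTX]
    exact (even_iff_two_dvd.mp h).mul_right _
  obtain ⟨C, hC⟩ := exists_right_complement'_of_coprime (N := T')
    (by rw [hT'c]; exact (Nat.coprime_two_left.mpr hT'i).pow_left a)
  have hCc : Odd (Nat.card ↥C) := by rw [← hC.symm.index_eq_card]; exact hT'i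
  set C' := C.map X.subtype with hC'
  have hC'c : Odd (Nat.card ↥C') := by rwa [hC', card_map_of_injective X.subtype_injective]
  have hC'T : ∀ c ∈ C', ∀ t ∈ (T : Subgroup G), t * c = c * t := fun c hc t ht =>
    mem_centralizer_iff.mp
      (hodd c (map_subtype_le _ hc) (hC'c.of_dvd_nat (orderOf_dvd_natCard _ hc))) t ht
  set N := K ⊔ C' with hN
  have hXN : ∀ x ∈ X, ∀ c ∈ C', x * c * x⁻¹ ∈ N := by
    intro x hx c hc
    obtain ⟨⟨t, d⟩, e⟩ := hC.2 ⟨x, hx⟩
    have he : (t.1 : G) * (d.1 : G) = x := congrArg Subtype.val e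
    have hd : (d.1 : G) ∈ C' := mem_map_of_mem X.subtype d.2
    have ht : (t.1 : G) ∈ (T : Subgroup G) := mem_subgroupOf.mp t.2
    have h1 : (d.1 : G) * c * (d.1 : G)⁻¹ ∈ C' := mul_mem (mul_mem hd hc) (inv_mem hd)
    refine mem_sup_right ?_
    have h2 : x * c * x⁻¹ = (d.1 : G) * c * (d.1 : G)⁻¹ := by
      calc x * c * x⁻¹ = (t.1 : G) * ((d.1 : G) * c * (d.1 : G)⁻¹) * (t.1 : G)⁻¹ := by
            rw [← he]; group
        _ = (d.1 : G) * c * (d.1 : G)⁻¹ := by rw [hC'T _ h1 _ ht, mul_inv_cancel_right]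
    exact h2 ▸ h1
  have hNn : N.Normal := by
    refine ⟨fun m hm g => ?_⟩
    have hle : N ≤ N.comap (MulAut.conj g).toMonoidHom := by
      refine sup_le (fun k hk => mem_sup_left ?_) fun c hc => ?_
      · exact (inferInstance : K.Normal).conj_mem k hk g
      · obtain ⟨k, hk, n, hn, rfl⟩ := hdec g
        show k * n * c * (k * n)⁻¹ ∈ N
        rw [show k * n * c * (k * n)⁻¹ = k * (n * c * n⁻¹) * k⁻¹ by group]
        exact mul_mem (mul_mem (mem_sup_left hk) (hXN n hn c hc)) (inv_mem (mem_sup_left hk))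
    exact hle hm
  have hNo : Odd (Nat.card ↥N) := odd_card_sup K C' hK hC'c
  refine ⟨T, N, hNn, isComplement'_of_disjoint_and_mul_eq_univ ?_ ?_⟩
  · rw [disjoint_iff]
    refine disjoint_iff.mp (disjoint_of_coprime_natCard ?_)
    rw [ha]
    exact (Nat.coprime_two_right.mpr hNo).pow_right a
  · haveI := hNn
    rw [← normal_mul]
    refine Set.eq_univ_of_forall fun g => ?_
    obtain ⟨k, hk, n, hn, rfl⟩ := hdec g
    obtain ⟨⟨t, d⟩, e⟩ := hC.2 ⟨n, hn⟩
    have he : (t.1 : G) * (d.1 : G) = n := congrArg Subtype.val e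
    refine mul_mem (mem_sup_left (mem_sup_left hk)) ?_
    rw [← he]
    exact mul_mem (mem_sup_right (mem_subgroupOf.mp t.2))
      (mem_sup_left (mem_sup_right (mem_map_of_mem X.subtype d.2)))
end U34Suzuki

open U34Suzuki in
/-- `U34SuzukiStmt`. -/
theorem u34Suzuki : U34SuzukiStmt.{u} := by
  classical
  intro π G _ _ hctx hloc S E hU hyp
  haveI : Fact (Nat.Prime 2) := ⟨Nat.prime_two⟩
  haveI := hctx.simple
  have hEE : ∀ n ∈ normalizer ((S : Subgroup G) : Set G), ∀ e ∈ E, n * e * n⁻¹ ∈ E := by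
    intro n hn e he
    refine (hU.mem_iff _ ((mem_normalizer_iff.mp hn e).mp (hU.le he))).mp ?_
    calc n * e * n⁻¹ * (n * e * n⁻¹) = n * (e * e) * n⁻¹ := by group
      _ = 1 := by rw [(hU.mem_iff e (hU.le he)).mpr he]; group
  have hcore : Cfsg.pPrimeCore 2 G = ⊥ := by
    haveI : (Cfsg.pPrimeCore 2 G).Normal := inferInstance
    rcases (inferInstance : (Cfsg.pPrimeCore 2 G).Normal).eq_bot_or_eq_top with h | h
    · exact h
    · have hc := Thompson.card_pPrimeCore_coprime (p := 2) (G := G)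
      rw [h, card_top] at hc
      exact absurd hloc.even (Nat.prime_two.coprime_iff_not_dvd.mp hc.symm)
  have hb : ∀ x ∈ (S : Subgroup G), orderOf x = 2 →
      Cfsg.HasNormalPComplement 2 ↥(centralizer ({x} : Set G)) := by
    intro x hx hx2
    have hx1 : x ≠ 1 := fun h => by rw [h, orderOf_one] at hx2; omega
    have hxE : x ∈ E := (hU.mem_iff x hx).mp (by rw [← pow_two, ← hx2, pow_orderOf_eq_one])
    set U := centralizer ({x} : Set G) with hU'
    have hSU : (S : Subgroup G) ≤ U := fun s hs =>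
      mem_centralizer_singleton_iff.mpr (hU.central x hxE s hs).symm
    have hTin : SylowIn 2 (S : Subgroup G) U := ⟨hSU, S.isPGroup', fun h => S.not_dvd_index
      (h.trans (Dvd.intro _ (relIndex_mul_index hSU)))⟩
    obtain ⟨K, hKU, hKn, hKo, hdec⟩ := hloc.layer U (hloc.centNe x hx1) _ hTin
    haveI : (K.subgroupOf U).Normal := (normal_subgroupOf_iff_le_normalizer hKU).mpr hKn
    refine hasNormalPComplement (S.subtype hSU) (K.subgroupOf U) ?_ ?_ ?_
    · rwa [Nat.card_congr (subgroupOfEquivOfLe hKU).toEquiv]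
    · intro u
      obtain ⟨k, hk, n, hnU, hn, e⟩ := hdec u u.2
      refine ⟨⟨k, hKU hk⟩, hk, ⟨n, hnU⟩, mem_normalizer_iff.mpr fun y => ?_, Subtype.ext e⟩
      exact mem_normalizer_iff.mp hn y
    · intro n hn ho
      have hnS : (n : G) ∈ normalizer ((S : Subgroup G) : Set G) := by
        refine Coprime.mem_normalizer_of_le_iff (fun y hy => ?_) fun y hy => ?_
        · exact (mem_normalizer_iff.mp hn ⟨y, hSU hy⟩).mp hy
        · have := (mem_normalizer_iff.mp (inv_mem hn) ⟨y, hSU hy⟩).mp hy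
          simpa [mem_subgroupOf] using this
      have ho' : Odd (orderOf (n : G)) := by rwa [Subgroup.orderOf_coe]
      have hc := hyp _ hnS (fixes_klein hU.card_E ho' (hEE _ hnS) hxE hx1
        (mem_centralizer_singleton_iff.mp n.2)) ho'
      exact mem_centralizer_iff.mpr fun y hy => Subtype.ext (mem_centralizer_iff.mp hc y hy)
  have ha : ∀ x ∈ (S : Subgroup G), ∀ y ∈ (S : Subgroup G), (∃ g : G, g * x * g⁻¹ = y) →
      ∃ n ∈ normalizer ((S : Subgroup G) : Set G), n * x * n⁻¹ = y := by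
    rintro x hx y hy ⟨g, hg⟩
    obtain ⟨n, hn, hne⟩ := hloc.fusion S (zpowers x) g (zpowers_le.mpr hx) (fun z hz => by
      obtain ⟨i, rfl⟩ := mem_zpowers_iff.mp hz
      rw [← conj_zpow, hg]
      exact zpow_mem hy i)
    exact ⟨n, hn, (hne x (mem_zpowers x)).trans hg⟩
  have hc : ∀ x y : G, orderOf x = 2 → orderOf y = 2 →
      Cfsg.IsPSolvable 2 ↥(closure ({x, y} : Set G)) := fun x y hx hy => by
    haveI := TIHall.isSolvable_closure_pair hx hy
    exact OddLocal44.isPSolvable_of_isSolvable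
  have hd : ¬ (2 = 2 ∧ Cfsg.IsElementaryAbelian 2 (S : Subgroup G) ∧
      ∀ x ∈ (S : Subgroup G), ∀ y ∈ (S : Subgroup G), x ≠ 1 → y ≠ 1 →
        ∃ g : G, g * x * g⁻¹ = y) := by
    rintro ⟨-, hel, -⟩
    obtain ⟨x, hx, y, hy, hne⟩ := hU.nonab
    exact hne (congrArg Subtype.val (hel.1.is_comm.comm ⟨x, hx⟩ ⟨y, hy⟩))
  obtain ⟨-, F, iF, iT, m, hm, hF, ⟨e⟩⟩ :=
    S3297.result hcore S (hloc.notNormal S) ha hb hc hd
  have hcard := CNCit80.sz_card hF hm
  rw [← Nat.card_congr e.toEquiv] at hcard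
  refine CNCit80.three_not_dvd_sz_order m (hcard ▸ ?_)
  -- the three involutions of `E` are permuted transitively by `N(S)`
  set NS := normalizer ((S : Subgroup G) : Set G) with hNS
  let X := {x : G // x ∈ (E : Set G) \ {1}}
  letI : MulAction ↥NS X :=
    { smul := fun n x => ⟨n.1 * x.1 * n.1⁻¹, hEE n.1 n.2 x.1 x.2.1,
        fun h => x.2.2 (conj_eq_one_iff.mp h)⟩
      one_smul := fun x => Subtype.ext (by show (1 : G) * x.1 * 1⁻¹ = x.1; group)
      mul_smul := fun g h x => Subtype.ext (by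
        show (g.1 * h.1) * x.1 * (g.1 * h.1)⁻¹ = g.1 * (h.1 * x.1 * h.1⁻¹) * g.1⁻¹
        group) }
  haveI : MulAction.IsPretransitive ↥NS X := ⟨fun x y => by
    obtain ⟨n, hn, hne⟩ := hU.trans x.1 x.2.1 (fun h => x.2.2 h) y.1 y.2.1 (fun h => y.2.2 h)
    exact ⟨⟨n, hn⟩, Subtype.ext hne⟩⟩
  have hX3 : Nat.card X = 3 := by
    show Nat.card ↥((E : Set G) \ {1}) = 3
    rw [Nat.card_coe_set_eq, Set.ncard_sdiff_singleton_of_mem (show (1 : G) ∈ (E : Set G) from
      one_mem E), ← Nat.card_coe_set_eq]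
    show Nat.card ↥E - 1 = 3
    rw [hU.card_E]
  haveI : Nonempty X := (Nat.card_pos_iff.mp (by omega)).1
  obtain ⟨x₀⟩ := (inferInstance : Nonempty X)
  have h3 : Nat.card X ∣ Nat.card ↥NS := by
    rw [← MulAction.index_stabilizer_of_transitive (↥NS) x₀]
    exact index_dvd_card _
  exact hX3 ▸ h3.trans (card_subgroup_dvd_card NS)

end Cfsg.Agent.PiHom23
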